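import Cfsg.Agent.Lib.CosetEnum.Pres

/-!
Lower bounds for the image of a table action: straight line programs of permutations with a
stabiliser chain.  The table of an element `x` is the permutation `(ρ x)⁻¹`.
-/

set_option autoImplicit false

namespace Cfsg.Agent.Lib.CosetEnum

/-- Operation of step `k` (three fields of `Op`): `0 a _` letter, `1 a b` product, `2 a _` inverse.
Entry `k * N + i` of `P` is the image of `i` under element `k`. -/
noncomputable def slpAt (K N : ℕ) (T Op P : PTree) (k : ℕ) : Bool :=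
  force (get32 Op (Nat.mul 3 k)) fun op =>
  force (get32 Op (Nat.add (Nat.mul 3 k) 1)) fun a =>
  force (get32 Op (Nat.add (Nat.mul 3 k) 2)) fun b =>
  force (Nat.mul k N) fun o =>
  Bool.rec
    (Bool.rec
      (Nat.beq op 2 && Nat.blt a k &&
        allBelow N fun i => force (get32 P (Nat.add o i)) fun j =>
          Nat.blt j N && Nat.beq (get32 P (Nat.add (Nat.mul a N) j)) i)
      (Nat.blt a k && Nat.blt b k &&
        allBelow N fun i => force (get32 P (Nat.add (Nat.mul a N) i)) fun j =>
          Nat.beq (get32 P (Nat.add o i)) (get32 P (Nat.add (Nat.mul b N) j)))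
      (Nat.beq op 1))
    (Nat.blt a K &&
      allBelow N fun i => Nat.beq (get32 P (Nat.add o i)) (get32 T (Nat.add (Nat.mul i K) a)))
    (Nat.beq op 0)

/-- A level: the base point, its generators, the orbit points, their positions, the tree. -/
structure OrbLevel where
  base : ℕ
  gens : List ℕ
  Q : PTree
  pos : PTree
  R : PTree
  len : ℕ

/-- Check a level: generators fix the earlier base points, the orbit points are distinct and
each is reached from an earlier one. -/
noncomputable def levelOK (E N : ℕ) (P : PTree) (pre : List ℕ) (l : OrbLevel) : Bool :=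
  List.rec (motive := fun _ => Bool) true
    (fun g _ ih => Nat.blt g E &&
      List.rec (motive := fun _ => Bool) true
        (fun b _ ih' => Nat.beq (get32 P (Nat.add (Nat.mul g N) b)) b && ih') pre && ih) l.gens &&
  Nat.blt 0 l.len && Nat.blt l.base N && Nat.beq (get32 l.Q 0) l.base &&
  allBelow l.len fun j =>
    force (get32 l.Q j) fun q =>
    Nat.blt q N && Nat.beq (get32 l.pos q) j &&
    Bool.rec
      (force (get32 l.R (Nat.mul j 2)) fun j' => force (get32 l.R (Nat.add (Nat.mul j 2) 1)) fun w =>
        Nat.blt j' j && Nat.blt w l.gens.length &&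
          Nat.beq (get32 P (Nat.add (Nat.mul (l.gens.getD w 0) N) (get32 l.Q j'))) q)
      true (Nat.beq j 0)

/-- Check a chain of levels. -/
noncomputable def levelsOK (E N : ℕ) (P : PTree) (ls : List OrbLevel) : List ℕ → Bool :=
  List.rec (motive := fun _ => List ℕ → Bool) (fun _ => true)
    (fun l _ ih pre => levelOK E N P pre l && ih (l.base :: pre)) ls

/-- The certified order. -/
def chainSize (ls : List OrbLevel) : ℕ := (ls.map OrbLevel.len).prod

variable {G : Type*} [Group G] {N : ℕ} (ρ : G →* Equiv.Perm (Fin N))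

theorem slp_sound {K E : ℕ} {T Op P : PTree} (φ : ℕ → G)
    (hρ : ∀ g < K, ∀ i : Fin N, ((ρ (φ g))⁻¹ i).1 = get32 T (i.1 * K + g))
    (h : allBelow E (slpAt K N T Op P) = true) :
    ∀ k < E, ∃ x : G, ∀ i : Fin N, ((ρ x)⁻¹ i).1 = get32 P (k * N + i.1) := by
  intro k
  induction k using Nat.strong_induction_on with
  | _ k ih =>
    intro hk
    have hc := allBelow_iff.1 h k hk
    simp only [slpAt, force_eq] at hc
    generalize get32 Op (Nat.add (Nat.mul 3 k) 1) = a at hc
    generalize get32 Op (Nat.add (Nat.mul 3 k) 2) = b at hc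
    generalize get32 Op (Nat.mul 3 k) = op at hc
    cases h0 : Nat.beq op 0
    · rw [h0] at hc
      cases h1 : Nat.beq op 1
      · rw [h1] at hc
        simp only [Bool.and_eq_true, Nat.blt_eq, allBelow_iff, Nat.beq_eq, Nat.add_eq,
          Nat.mul_eq] at hc
        obtain ⟨⟨-, ha⟩, hall⟩ := hc
        obtain ⟨x, hx⟩ := ih a ha (by omega)
        refine ⟨x⁻¹, fun i => ?_⟩
        obtain ⟨hj, he⟩ := hall i.1 i.2
        have : ((ρ x)⁻¹ ⟨_, hj⟩) = i := Fin.ext ((hx _).trans he)
        conv_lhs => rw [← this]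
        simp
      · rw [h1] at hc
        simp only [Bool.and_eq_true, Nat.blt_eq, allBelow_iff, Nat.beq_eq, Nat.add_eq,
          Nat.mul_eq] at hc
        obtain ⟨⟨ha, hb⟩, hall⟩ := hc
        obtain ⟨x, hx⟩ := ih a ha (by omega)
        obtain ⟨y, hy⟩ := ih b hb (by omega)
        refine ⟨x * y, fun i => ?_⟩
        rw [map_mul, mul_inv_rev, Equiv.Perm.mul_apply, hy, hx, hall i.1 i.2]
    · rw [h0] at hc
      simp only [Bool.and_eq_true, Nat.blt_eq, allBelow_iff, Nat.beq_eq, Nat.add_eq,
        Nat.mul_eq] at hc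
      exact ⟨φ a, fun i => by rw [hρ a hc.1, hc.2 i.1 i.2]⟩

/-- The subgroup of the image fixing a list of points. -/
def fixList (pre : List ℕ) : Subgroup (Equiv.Perm (Fin N)) where
  carrier := {σ | σ ∈ ρ.range ∧ ∀ i : Fin N, i.1 ∈ pre → σ i = i}
  mul_mem' {a b} ha hb := ⟨mul_mem ha.1 hb.1, fun i hi => by
    rw [Equiv.Perm.mul_apply, hb.2 i hi, ha.2 i hi]⟩
  one_mem' := ⟨one_mem _, fun i _ => rfl⟩
  inv_mem' {a} ha := ⟨inv_mem ha.1, fun i hi => by
    rw [Equiv.Perm.inv_def, Equiv.symm_apply_eq, ha.2 i hi]⟩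

theorem levels_sound {E : ℕ} {P : PTree}
    (hP : ∀ k < E, ∃ x : G, ∀ i : Fin N, ((ρ x)⁻¹ i).1 = get32 P (k * N + i.1))
    (ls : List OrbLevel) : ∀ pre, levelsOK E N P ls pre = true →
      chainSize ls ≤ Nat.card (fixList ρ pre) := by
  classical
  induction ls with
  | nil => intro pre _; simp [chainSize, Nat.one_le_iff_ne_zero]
  | cons l ls ih =>
    intro pre h
    change (levelOK E N P pre l && levelsOK E N P ls (l.base :: pre)) = true at h
    rw [Bool.and_eq_true] at h
    obtain ⟨hl, hrest⟩ := h
    have hrest' := ih _ hrest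
    simp only [levelOK, force_eq, Bool.and_eq_true, Nat.blt_eq, Nat.beq_eq, allBelow_iff] at hl
    obtain ⟨⟨⟨⟨hgens, hlen⟩, hb⟩, hQ0⟩, horb⟩ := hl
    have hmem : ∀ g ∈ l.gens, g < E ∧ ∀ b ∈ pre, get32 P (g * N + b) = b := by
      intro g hg
      revert hgens
      generalize l.gens = gs at hg
      induction gs with
      | nil => simp at hg
      | cons a as iha =>
        intro hgens
        simp only [Bool.and_eq_true, Nat.blt_eq] at hgens
        rcases List.mem_cons.1 hg with rfl | hg
        · refine ⟨hgens.1.1, ?_⟩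
          have h2 := hgens.1.2
          clear hgens iha ih hrest hrest'
          induction pre with
          | nil => simp
          | cons c cs ihc =>
            simp only [Bool.and_eq_true, Nat.beq_eq] at h2
            intro b hb
            rcases List.mem_cons.1 hb with rfl | hb
            · exact h2.1
            · exact ihc h2.2 b hb
        · exact iha hg hgens.2
    let b : Fin N := ⟨l.base, hb⟩
    let F := fixList ρ pre
    have hreach : ∀ j, ∀ hj : j < l.len, ∃ σ ∈ F, (σ b).1 = get32 l.Q j := by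
      intro j
      induction j using Nat.strong_induction_on with
      | _ j ihj =>
        intro hj
        rcases eq_or_ne j 0 with rfl | hne
        · exact ⟨1, one_mem _, hQ0.symm⟩
        have h' := (horb j hj).2
        rw [show Nat.beq j 0 = false by rw [← Bool.not_eq_true, Nat.beq_eq]; exact hne] at h'
        simp only [Bool.and_eq_true, Nat.blt_eq, Nat.beq_eq, Nat.add_eq, Nat.mul_eq] at h'
        obtain ⟨⟨hj', hw⟩, hs⟩ := h'
        obtain ⟨σ, hσ, hσb⟩ := ihj _ hj' (by omega)
        have hg := hmem _ (by rw [List.getD_eq_getElem _ _ hw]; exact List.getElem_mem hw :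
          l.gens.getD (get32 l.R (j * 2 + 1)) 0 ∈ l.gens)
        obtain ⟨x, hx⟩ := hP _ hg.1
        refine ⟨(ρ x)⁻¹ * σ, mul_mem ⟨inv_mem ⟨x, rfl⟩, fun i hi => Fin.ext ?_⟩ hσ, ?_⟩
        · rw [hx, hg.2 i.1 hi]
        · rw [Equiv.Perm.mul_apply, hx, hσb, hs]
    have horbit : l.len ≤ (MulAction.orbit F b).ncard := by
      let f : Fin l.len → Fin N := fun j => ⟨get32 l.Q j.1, (horb j.1 j.2).1.1⟩
      have hinj : Function.Injective f := by
        intro u v huv
        have : get32 l.Q u.1 = get32 l.Q v.1 := congrArg Fin.val huv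
        apply Fin.ext
        rw [← (horb u.1 u.2).1.2, this, (horb v.1 v.2).1.2]
      have hsub : Set.range f ⊆ MulAction.orbit F b := by
        rintro _ ⟨j, rfl⟩
        obtain ⟨σ, hσ, hσb⟩ := hreach j.1 j.2
        exact ⟨⟨σ, hσ⟩, Fin.ext hσb⟩
      have := Set.ncard_le_ncard hsub
      rwa [Set.ncard_range_of_injective hinj, Nat.card_fin] at this
    have hstab : Nat.card (fixList ρ (l.base :: pre)) ≤ Nat.card (MulAction.stabilizer F b) :=
      Nat.card_le_card_of_injective
        (fun σ => ⟨⟨σ.1, σ.2.1, fun i hi => σ.2.2 i (List.mem_cons_of_mem _ hi)⟩,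
          σ.2.2 b List.mem_cons_self⟩)
        (fun u v huv => Subtype.ext (congrArg (fun z => (z.1 : Equiv.Perm (Fin N))) huv))
    have hos := MulAction.card_orbit_mul_card_stabilizer_eq_card_group F b
    simp only [← Nat.card_eq_fintype_card, ← Set.ncard_coe_finset] at hos
    calc chainSize (l :: ls) = l.len * chainSize ls := by simp [chainSize]
      _ ≤ (MulAction.orbit F b).ncard * Nat.card (MulAction.stabilizer F b) :=
          Nat.mul_le_mul horbit (hrest'.trans hstab)
      _ = Nat.card F := by rw [← Nat.card_coe_set_eq]; exact hos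

/-- The image of the action has at least the certified order. -/
theorem card_range_ge {K E : ℕ} {T Op P : PTree} (φ : ℕ → G)
    (hρ : ∀ g < K, ∀ i : Fin N, ((ρ (φ g))⁻¹ i).1 = get32 T (i.1 * K + g))
    (h : allBelow E (slpAt K N T Op P) = true) (ls : List OrbLevel)
    (hls : levelsOK E N P ls [] = true) : chainSize ls ≤ Nat.card ρ.range :=
  (levels_sound ρ (slp_sound ρ φ hρ h) ls [] hls).trans
    (Nat.card_le_card_of_injective (fun σ => (⟨σ.1, σ.2.1⟩ : ρ.range))
      fun _ _ huv => Subtype.ext (congrArg (fun z => (z.1 : Equiv.Perm (Fin N))) huv))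

end Cfsg.Agent.Lib.CosetEnum
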