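import Cfsg.Agent.Lib.CosetEnum.Chain
import Cfsg.Agent.Lib.CosetEnum.Slp

/-!
Identification of subgroups of presented groups that are generated by involutions with a given
group: an auxiliary presentation on these involutions maps onto both.
-/

set_option autoImplicit false

namespace Cfsg.Agent.Lib.CosetEnum

/-- Letters for a group presented on `n + 1` involutory generators. -/
noncomputable def invLetters (n IV : ℕ) (RL0 : List (List ℕ)) : Letters (Fin (n + 1)) where
  K := n + 1
  IV := IV
  sym g := (if h : g < n + 1 then ⟨g, h⟩ else 0, true)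
  col := Fin.val
  RL := RL0
  rels := RL0.map fun l => FreeGroup.mk (l.map fun g => (if h : g < n + 1 then ⟨g, h⟩ else 0, true))

/-- The relators of `invLetters`. -/
abbrev invPres (n IV : ℕ) (RL0 : List (List ℕ)) : Set (FreeGroup (Fin (n + 1))) :=
  {r | r ∈ (invLetters n IV RL0).rels}

theorem invPres_mem (n IV : ℕ) (RL0 : List (List ℕ)) :
    ∀ r ∈ (invLetters n IV RL0).rels, r ∈ invPres n IV RL0 := fun _ h => h

theorem invLetters_col (n IV : ℕ) (RL0 : List (List ℕ)) (a : Fin (n + 1)) :
    (invLetters n IV RL0).col a < (invLetters n IV RL0).K ∧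
      (invLetters n IV RL0).sym ((invLetters n IV RL0).col a) = (a, true) := by
  exact ⟨a.2, Prod.ext (dif_pos a.2) rfl⟩

theorem invLetters_ok {n IV : ℕ} {RL0 : List (List ℕ)} (hn : n + 1 < 32)
    (hK : invL IV (n + 1) = n + 1) (hIV : ∀ g < n + 1, invL IV g = g ∧ [g, g] ∈ RL0)
    (hlt : ∀ l ∈ RL0, ∀ g ∈ l, g < n + 1) : (invLetters n IV RL0).OK := by
  have hrel : ∀ l ∈ RL0, (invLetters n IV RL0).word l ∈ (invLetters n IV RL0).rels :=
    fun l hl => List.mem_map.2 ⟨l, hl, rfl⟩
  refine ⟨hn, hK, fun g hg => ?_, fun l hl => ⟨hlt l hl, Or.inr (Or.inl (hrel l hl))⟩, ?_⟩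
  · obtain ⟨h1, h2⟩ := hIV g hg
    change invL IV g < n + 1 ∧ [g, invL IV g] ∈ RL0 ∧ _
    rw [h1]
    refine ⟨hg, h2, Or.inr ?_⟩
    have := hrel _ h2
    rwa [show invL (invLetters n IV RL0).IV g = g from h1]
  · intro r hr
    obtain ⟨l, hl, rfl⟩ := List.mem_map.1 hr
    exact ⟨l, hl, lettersOf_mk_pos (hlt l hl)⟩
where
  lettersOf_mk_pos {n IV : ℕ} {RL0 : List (List ℕ)} {l : List ℕ} (hc : ∀ g ∈ l, g < n + 1) :
      (invLetters n IV RL0).lettersOf (FreeGroup.mk (l.map (invLetters n IV RL0).sym)) = l := by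
    have hred : FreeGroup.reduce (l.map (invLetters n IV RL0).sym) =
        l.map (invLetters n IV RL0).sym := by
      clear hc
      induction l with
      | nil => rfl
      | cons g l ih =>
        rw [List.map_cons, FreeGroup.reduce.cons, ih]
        cases l with
        | nil => rfl
        | cons h l => simp [invLetters]
    rw [Letters.lettersOf, FreeGroup.toWord_mk, hred, List.map_map]
    conv_rhs => rw [← List.map_id l]
    apply List.map_congr_left
    intro g hg
    simp [Letters.letter, invLetters, Nat.lt_succ_iff.1 (hc g hg)]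


theorem invPres_prod {n IV : ℕ} {RL0 : List (List ℕ)} {G : Type*} [Group G] (v : ℕ → G)
    (h : ∀ l ∈ RL0, (∀ g ∈ l, g < n + 1) ∧ (l.map v).prod = 1) :
    ∃ ψ : PresentedGroup (invPres n IV RL0) →* G,
      ∀ g < n + 1, ψ ((invLetters n IV RL0).phi _ g) = v g := by
  have hlift : ∀ r ∈ invPres n IV RL0, FreeGroup.lift (fun a : Fin (n + 1) => v a.1) r = 1 := by
    rintro r hr
    obtain ⟨l, hl, rfl⟩ := List.mem_map.1 hr
    rw [FreeGroup.lift_mk, List.map_map, ← (h l hl).2]
    congr 1
    apply List.map_congr_left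
    intro g hg
    simp [Nat.lt_succ_iff.1 ((h l hl).1 g hg)]
  refine ⟨PresentedGroup.toGroup hlift, fun g hg => ?_⟩
  rw [Letters.phi_of_lt (show g < (invLetters n IV RL0).K from hg)]
  change FreeGroup.lift (fun a : Fin (n + 1) => v a.1) (FreeGroup.mk [_]) = _
  simp [invLetters, FreeGroup.lift_mk, Nat.lt_succ_iff.1 hg]

/-- All letters together generate. -/
theorem subOf_range_eq_top {α : Type} [DecidableEq α] (L : Letters α) (S : Set (FreeGroup α))
    (hcol : ∀ a, L.col a < L.K ∧ L.sym (L.col a) = (a, true)) :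
    subOf L S ((List.range L.K).map fun g => [g]) = ⊤ := by
  rw [eq_top_iff, ← Letters.gen_closure (S := S) hcol]
  refine Subgroup.closure_mono ?_
  rintro x ⟨g, hg, rfl⟩
  exact ⟨[g], List.mem_map.2 ⟨g, List.mem_range.2 hg, rfl⟩, by simp⟩

/-- The range of a hom out of a presented group is generated by the images of the letters. -/
theorem range_eq_closure {α : Type} [DecidableEq α] (L : Letters α) (S : Set (FreeGroup α))
    (hcol : ∀ a, L.col a < L.K ∧ L.sym (L.col a) = (a, true)) {G : Type*} [Group G]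
    (ψ : PresentedGroup S →* G) :
    ψ.range = Subgroup.closure {x | ∃ g < L.K, ψ (L.phi S g) = x} := by
  rw [MonoidHom.range_eq_map, ← Letters.gen_closure (S := S) hcol, MonoidHom.map_closure]
  congr 1
  ext x
  constructor
  · rintro ⟨_, ⟨g, hg, rfl⟩, rfl⟩; exact ⟨g, hg, rfl⟩
  · rintro ⟨g, hg, rfl⟩; exact ⟨_, ⟨g, hg, rfl⟩, rfl⟩

/-- A subgroup generated by letters is the image of a group presented on these letters. -/
theorem exists_cover {α : Type} [DecidableEq α] (L : Letters α) (S : Set (FreeGroup α))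
    (hS : ∀ r ∈ L.rels, r ∈ S) (hok : L.OK)
    (hcol : ∀ a, L.col a < L.K ∧ L.sym (L.col a) = (a, true))
    {n IV : ℕ} {RL0 : List (List ℕ)} (emb : List ℕ) (hlen : emb.length = n + 1)
    (hRL : ∀ l ∈ RL0, (∀ g ∈ l, g < n + 1) ∧ embWord emb l ∈ L.RL) :
    ∃ ψ : PresentedGroup (invPres n IV RL0) →* PresentedGroup S,
      ψ.range = subOf L S (emb.map fun g => [g]) := by
  obtain ⟨ψ, hψ⟩ := invPres_prod (IV := IV) (fun g => L.phi S (emb.getD g 0))
    (fun l hl => ⟨(hRL l hl).1, by
      have := Letters.prod_rel (S := S) hS hok hcol (hRL l hl).2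
      rwa [embWord, List.map_map] at this⟩)
  refine ⟨ψ, ?_⟩
  rw [range_eq_closure _ _ (invLetters_col n IV RL0) ψ, subOf]
  congr 1
  ext x
  constructor
  · rintro ⟨g, hg, rfl⟩
    rw [hψ g hg]
    have hg' : g < emb.length := hlen ▸ hg
    exact ⟨[emb.getD g 0], List.mem_map.2
      ⟨_, by rw [List.getD_eq_getElem _ _ hg']; exact List.getElem_mem hg', rfl⟩, by simp⟩
  · rintro ⟨l, hl, rfl⟩
    obtain ⟨e, he, rfl⟩ := List.mem_map.1 hl
    obtain ⟨g, hg, rfl⟩ := List.mem_iff_getElem.1 he
    refine ⟨g, show g < n + 1 by omega, ?_⟩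
    rw [hψ g (by omega), List.getD_eq_getElem _ _ hg]
    simp

/-- A group with at most as many elements as the image is isomorphic to the image. -/
theorem injective_of_card {P G : Type*} [Group P] [Group G] (ψ : P →* G) {B : ℕ}
    (hP : Nat.card P ≠ 0 ∧ Nat.card P ≤ B) (hB : B ≤ Nat.card ψ.range) :
    Function.Injective ψ := by
  haveI : Finite P := Nat.finite_of_card_ne_zero hP.1
  have h1 : Nat.card ψ.range ≤ Nat.card P :=
    Nat.card_le_card_of_surjective ψ.rangeRestrict ψ.rangeRestrict_surjective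
  have hb : Function.Bijective ψ.rangeRestrict :=
    (Nat.bijective_iff_surjective_and_card _).2 ⟨ψ.rangeRestrict_surjective, by omega⟩
  intro a b hab
  exact hb.1 (Subtype.ext hab)

/-- Words read through a table of the generators. -/
theorem scan_of_table {G : Type*} [Group G] {N K : ℕ} {T : PTree} (σ : G →* Equiv.Perm (Fin N))
    (v : ℕ → G) (hv : ∀ g < K, ∀ i : Fin N, ((σ (v g))⁻¹ i).1 = get32 T (i.1 * K + g)) :
    ∀ l : List ℕ, (∀ g ∈ l, g < K) → ∀ i : Fin N, ((σ (l.map v).prod)⁻¹ i).1 = scan K T l i.1 := by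
  intro l
  induction l with
  | nil => intro _ i; simp [scan]
  | cons g l ih =>
    intro hl i
    rw [List.map_cons, List.prod_cons, map_mul, mul_inv_rev, Equiv.Perm.mul_apply,
      ih (fun x hx => hl x (List.mem_cons_of_mem _ hx)), hv g (hl g List.mem_cons_self)]
    change scan K T l (get32 T (i.1 * K + g)) =
      force (get32 T (Nat.add (Nat.mul i.1 K) g)) (scan K T l)
    rw [force_eq]; rfl

/-- Involutions with a braid relation agree in every abelian image. -/
theorem braid_abelian {A : Type*} [CommGroup A] {x y : A} (hx : x * x = 1) (hy : y * y = 1)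
    (h : (x * y) ^ 3 = 1) : x = y := by
  have h2 : (x * y) ^ 2 = 1 := by rw [mul_pow, sq, sq, hx, hy, one_mul]
  rw [pow_succ, h2, one_mul] at h
  calc x = x * (y * y) := by rw [hy, mul_one]
    _ = y := by rw [← mul_assoc, h, one_mul]

/-- A group generated by involutions whose braid graph is connected, and with a relator of odd
length, is perfect. -/
theorem commutator_invPres {n IV : ℕ} {RL0 : List (List ℕ)}
    (hlt : ∀ l ∈ RL0, ∀ g ∈ l, g < n + 1) (hsq : ∀ g < n + 1, [g, g] ∈ RL0)
    (hconn : ∀ g < n + 1, g ≠ 0 → ∃ h < g, [h, g, h, g, h, g] ∈ RL0)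
    (w : List ℕ) (hw : w ∈ RL0) (hodd : w.length % 2 = 1) :
    commutator (PresentedGroup (invPres n IV RL0)) = ⊤ := by
  have hprod : ∀ l ∈ RL0, (l.map ((invLetters n IV RL0).phi (invPres n IV RL0))).prod = 1 :=
    fun l hl => by
      rw [Letters.prod_phi l (hlt l hl)]
      exact PresentedGroup.one_of_mem (List.mem_map.2 ⟨l, hl, rfl⟩)
  let q : ℕ → Abelianization (PresentedGroup (invPres n IV RL0)) :=
    fun g => Abelianization.of ((invLetters n IV RL0).phi _ g)
  have hq : ∀ l ∈ RL0, (l.map q).prod = 1 := fun l hl => by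
    have := congrArg Abelianization.of (hprod l hl)
    rw [map_one, map_list_prod, List.map_map] at this
    exact this
  have hqsq : ∀ g < n + 1, q g * q g = 1 := fun g hg => by simpa using hq _ (hsq g hg)
  have hall : ∀ g < n + 1, q g = q 0 := by
    intro g
    induction g using Nat.strong_induction_on with
    | _ g ih =>
      intro hg
      by_cases h0 : g = 0
      · rw [h0]
      · obtain ⟨h, hh, hm⟩ := hconn g hg h0
        rw [← ih h hh (by omega)]
        refine (braid_abelian (hqsq h (by omega)) (hqsq g hg) ?_).symm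
        simpa [pow_succ, mul_assoc] using hq _ hm
  have h0 : q 0 = 1 := by
    have h := hq w hw
    rw [List.map_congr_left (g := fun _ => q 0) (fun g hg => hall g (hlt w hw g hg)),
      List.map_const', List.prod_replicate] at h
    obtain ⟨k, hk⟩ : ∃ k, w.length = 2 * k + 1 := ⟨w.length / 2, by omega⟩
    rw [hk, pow_succ, pow_mul, sq, hqsq 0 (Nat.succ_pos n), one_pow, one_mul] at h
    exact h
  rw [eq_top_iff, ← Letters.gen_closure (S := invPres n IV RL0) (invLetters_col n IV RL0),
    Subgroup.closure_le]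
  rintro x ⟨g, hg, rfl⟩
  have : q g = 1 := by rw [hall g hg, h0]
  rw [← Abelianization.ker_of]
  exact this

end Cfsg.Agent.Lib.CosetEnum
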