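import Cfsg.Agent.Lib.CosetEnum.Slp
import Cfsg.Agent.Lib.CosetEnum.Ident

/-!
Stabiliser chains of exactly the order of the group: deciding equality of elements on the base, and refuting
the existence of an element with prescribed images of the base.
-/

set_option autoImplicit false

namespace Cfsg.Agent.Lib.CosetEnum

/-- `q` is a listed point of the orbit. -/
noncomputable def inQ (l : OrbLevel) (q : ℕ) : Bool :=
  Nat.blt (get32 l.pos q) l.len && Nat.beq (get32 l.Q (get32 l.pos q)) q

/-- The table of element `k`, `N` points each. -/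
noncomputable def tab (N : ℕ) (P : PTree) (k i : ℕ) : ℕ := get32 P (Nat.add (Nat.mul k N) i)

/-- Move the head of a tuple to the base by generators of the level; `true` means: impossible. -/
noncomputable def stripTo (N : ℕ) (P : PTree) (l : OrbLevel) (half : ℕ) (k : List ℕ → Bool) :
    ℕ → List ℕ → Bool
  | 0, _ => false
  | fuel + 1, tup =>
    match tup with
    | [] => false
    | q :: rest =>
      if Nat.beq q l.base then k rest
      else if inQ l q then
        force (Nat.add (get32 l.R (Nat.add (Nat.mul (get32 l.pos q) 2) 1)) half) fun w =>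
          Nat.blt w l.gens.length &&
            force (l.gens.getD w 0) fun g =>
              stripTo N P l half k fuel ((q :: rest).map fun i => tab N P g i)
      else true

/-- `true` means: no element of the group maps the base to this tuple. The second half of the generators
of each level undoes the first half. -/
noncomputable def siftFail (N : ℕ) (P : PTree) : List OrbLevel → List ℕ → Bool
  | [], _ => false
  | l :: ls, tup => stripTo N P l (Nat.div l.gens.length 2) (siftFail N P ls) 64 tup

theorem levels_base {E N : ℕ} {P : PTree} : ∀ {ls : List OrbLevel} {pre : List ℕ},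
    levelsOK E N P ls pre = true → ∀ m ∈ ls, m.base < N := by
  intro ls
  induction ls with
  | nil => simp
  | cons a as iha =>
    intro pre h m hm
    change (levelOK E N P pre a && levelsOK E N P as (a.base :: pre)) = true at h
    rw [Bool.and_eq_true] at h
    rcases List.mem_cons.1 hm with rfl | hm
    · have := h.1
      simp only [levelOK, Bool.and_eq_true, Nat.blt_eq] at this
      exact this.1.1.2
    · exact iha h.2 m hm

variable {G : Type*} [Group G] {N : ℕ} (ρ : G →* Equiv.Perm (Fin N))

/-- The levels list whole orbits, and only the identity fixes the whole base. -/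
def Tight : List OrbLevel → List ℕ → Prop
  | [], pre => ∀ σ ∈ fixList ρ pre, σ = 1
  | l :: ls, pre => (∀ σ ∈ fixList ρ pre, ∀ b : Fin N, b.1 = l.base → inQ l (σ b).1 = true) ∧
      Tight ls (l.base :: pre)

theorem level_mem {E : ℕ} {P : PTree} {pre : List ℕ} {l : OrbLevel}
    (h : levelOK E N P pre l = true) :
    ∀ g ∈ l.gens, g < E ∧ ∀ b ∈ pre, get32 P (g * N + b) = b := by
  simp only [levelOK, Bool.and_eq_true] at h
  have hgens := h.1.1.1.1
  intro g hg
  revert hgens
  generalize l.gens = gs at hg
  induction gs with
  | nil => simp at hg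
  | cons a as iha =>
    intro hgens
    simp only [Bool.and_eq_true, Nat.blt_eq] at hgens
    rcases List.mem_cons.1 hg with rfl | hg
    · refine ⟨hgens.1.1, ?_⟩
      have h2 := hgens.1.2
      clear hgens iha h
      induction pre with
      | nil => simp
      | cons c cs ihc =>
        simp only [Bool.and_eq_true, Nat.beq_eq] at h2
        intro b hb
        rcases List.mem_cons.1 hb with rfl | hb
        · exact h2.1
        · exact ihc h2.2 b hb
    · exact iha hg hgens.2

theorem tight_of_levels {E : ℕ} {P : PTree}
    (hP : ∀ k < E, ∃ x : G, ∀ i : Fin N, ((ρ x)⁻¹ i).1 = get32 P (k * N + i.1))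
    (ls : List OrbLevel) : ∀ pre, levelsOK E N P ls pre = true →
      Nat.card (fixList ρ pre) ≤ chainSize ls → Tight ρ ls pre := by
  classical
  induction ls with
  | nil =>
    intro pre _ hle σ hσ
    simp only [chainSize, List.map_nil, List.prod_nil] at hle
    have : Subsingleton (fixList ρ pre) := Finite.card_le_one_iff_subsingleton.1 hle
    exact congrArg Subtype.val (Subsingleton.elim (⟨σ, hσ⟩ : fixList ρ pre) 1)
  | cons l ls ih =>
    intro pre h hle
    have hmem : ∀ g ∈ l.gens, g < E ∧ ∀ b ∈ pre, get32 P (g * N + b) = b := by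
      change (levelOK E N P pre l && levelsOK E N P ls (l.base :: pre)) = true at h
      rw [Bool.and_eq_true] at h
      exact level_mem h.1
    change (levelOK E N P pre l && levelsOK E N P ls (l.base :: pre)) = true at h
    rw [Bool.and_eq_true] at h
    obtain ⟨hl, hrest⟩ := h
    have hrest' := levels_sound ρ hP ls _ hrest
    simp only [levelOK, force_eq, Bool.and_eq_true, Nat.blt_eq, Nat.beq_eq, allBelow_iff] at hl
    obtain ⟨⟨⟨⟨-, hlen⟩, hb⟩, hQ0⟩, horb⟩ := hl
    let b : Fin N := ⟨l.base, hb⟩
    let F := fixList ρ pre
    have hreach : ∀ j, ∀ hj : j < l.len, ∃ σ ∈ F, (σ b).1 = get32 l.Q j := by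
      intro j
      induction j using Nat.strong_induction_on with
      | _ j ihj =>
        intro hj
        rcases eq_or_ne j 0 with rfl | hne
        · exact ⟨1, one_mem _, hQ0.symm⟩
        have h' := (horb j hj).2
        rw [show Nat.beq j 0 = false by rw [← Bool.not_eq_true, Nat.beq_eq]; exact hne] at h'
        simp only [Bool.and_eq_true, Nat.blt_eq, Nat.beq_eq, Nat.add_eq, Nat.mul_eq] at h'
        obtain ⟨⟨hj', hw⟩, hs⟩ := h'
        obtain ⟨σ, hσ, hσb⟩ := ihj _ hj' (by omega)
        have hg := hmem _ (by rw [List.getD_eq_getElem _ _ hw]; exact List.getElem_mem hw :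
          l.gens.getD (get32 l.R (j * 2 + 1)) 0 ∈ l.gens)
        obtain ⟨x, hx⟩ := hP _ hg.1
        refine ⟨(ρ x)⁻¹ * σ, mul_mem ⟨inv_mem ⟨x, rfl⟩, fun i hi => Fin.ext ?_⟩ hσ, ?_⟩
        · rw [hx, hg.2 i.1 hi]
        · rw [Equiv.Perm.mul_apply, hx, hσb, hs]
    let f : Fin l.len → Fin N := fun j => ⟨get32 l.Q j.1, (horb j.1 j.2).1.1⟩
    have hinj : Function.Injective f := by
      intro u v huv
      have : get32 l.Q u.1 = get32 l.Q v.1 := congrArg Fin.val huv
      apply Fin.ext
      rw [← (horb u.1 u.2).1.2, this, (horb v.1 v.2).1.2]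
    have hsub : Set.range f ⊆ MulAction.orbit F b := by
      rintro _ ⟨j, rfl⟩
      obtain ⟨σ, hσ, hσb⟩ := hreach j.1 j.2
      exact ⟨⟨σ, hσ⟩, Fin.ext hσb⟩
    have horbit : l.len ≤ (MulAction.orbit F b).ncard := by
      have := Set.ncard_le_ncard hsub
      rwa [Set.ncard_range_of_injective hinj, Nat.card_fin] at this
    have hstab : Nat.card (fixList ρ (l.base :: pre)) ≤ Nat.card (MulAction.stabilizer F b) :=
      Nat.card_le_card_of_injective
        (fun σ => ⟨⟨σ.1, σ.2.1, fun i hi => σ.2.2 i (List.mem_cons_of_mem _ hi)⟩,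
          σ.2.2 b List.mem_cons_self⟩)
        (fun u v huv => Subtype.ext (congrArg (fun z => (z.1 : Equiv.Perm (Fin N))) huv))
    have hos := MulAction.card_orbit_mul_card_stabilizer_eq_card_group F b
    simp only [← Nat.card_eq_fintype_card] at hos
    rw [Nat.card_coe_set_eq] at hos
    have hprod : (MulAction.orbit F b).ncard * Nat.card (MulAction.stabilizer F b) ≤
        l.len * chainSize ls := by rw [hos]; exact hle.trans_eq (by simp [chainSize])
    have hpos : 0 < chainSize ls ∨ chainSize ls = 0 := by omega
    have hst1 : 0 < Nat.card (MulAction.stabilizer F b) := Nat.card_pos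
    have hlen' : (MulAction.orbit F b).ncard = l.len := by
      refine le_antisymm ?_ horbit
      by_contra hcon
      have h1 : (l.len + 1) * Nat.card (MulAction.stabilizer F b) ≤
          l.len * Nat.card (MulAction.stabilizer F b) :=
        (Nat.mul_le_mul_right _ (by omega)).trans
          (hprod.trans (Nat.mul_le_mul_left _ (hrest'.trans hstab)))
      rw [Nat.add_mul] at h1
      omega
    have hcard : Nat.card (fixList ρ (l.base :: pre)) ≤ chainSize ls := by
      rw [hlen'] at hprod
      exact hstab.trans (Nat.le_of_mul_le_mul_left hprod hlen)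
    refine ⟨fun σ hσ b' hb' => ?_, ih _ hrest hcard⟩
    obtain rfl : b' = b := Fin.ext hb'
    have heq : Set.range f = MulAction.orbit F b := Set.eq_of_subset_of_ncard_le hsub (by
      rw [Set.ncard_range_of_injective hinj, Nat.card_fin, hlen'])
    have : σ b ∈ Set.range f := by rw [heq]; exact ⟨⟨σ, hσ⟩, rfl⟩
    obtain ⟨j, hj⟩ := this
    have hj' : get32 l.Q j.1 = (σ b).1 := congrArg Fin.val hj
    simp only [inQ, Bool.and_eq_true, Nat.blt_eq, Nat.beq_eq, ← hj', (horb j.1 j.2).1.2, j.2,
      and_self]

/-- Only the identity fixes the base. -/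
theorem Tight.eq_one : ∀ {ls : List OrbLevel} {pre : List ℕ}, Tight ρ ls pre →
    ∀ σ ∈ fixList ρ pre, (∀ l ∈ ls, ∀ b : Fin N, b.1 = l.base → σ b = b) → σ = 1 := by
  intro ls
  induction ls with
  | nil => intro pre h σ hσ _; exact h σ hσ
  | cons l ls ih =>
    intro pre h σ hσ hfix
    refine ih h.2 σ ⟨hσ.1, fun i hi => ?_⟩ fun m hm => hfix m (List.mem_cons_of_mem _ hm)
    rcases List.mem_cons.1 hi with hi | hi
    · exact hfix l List.mem_cons_self i hi
    · exact hσ.2 i hi

/-- The action of a permutation on natural numbers. -/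
def natApply (σ : Equiv.Perm (Fin N)) (i : ℕ) : ℕ := if h : i < N then (σ ⟨i, h⟩).1 else i

theorem siftFail_sound {E : ℕ} {P : PTree}
    (hP : ∀ k < E, ∃ x : G, ∀ i : Fin N, ((ρ x)⁻¹ i).1 = get32 P (k * N + i.1)) :
    ∀ (ls : List OrbLevel) (pre : List ℕ), Tight ρ ls pre → levelsOK E N P ls pre = true →
      ∀ σ ∈ fixList ρ pre, siftFail N P ls (ls.map fun l => natApply σ l.base) = true → False := by
  intro ls
  induction ls with
  | nil => intro pre _ _ σ _ h; simp [siftFail] at h
  | cons l ls ih =>
    intro pre ht hok σ hσ hfail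
    change (levelOK E N P pre l && levelsOK E N P ls (l.base :: pre)) = true at hok
    rw [Bool.and_eq_true] at hok
    have hmem := level_mem hok.1
    have hb : l.base < N := by
      have := hok.1
      simp only [levelOK, Bool.and_eq_true, Nat.blt_eq] at this
      exact this.1.1.2
    rw [siftFail] at hfail
    generalize Nat.div l.gens.length 2 = half at hfail
    suffices ∀ fuel, ∀ σ ∈ fixList ρ pre,
        stripTo N P l half (siftFail N P ls) fuel ((l :: ls).map fun l => natApply σ l.base) = true →
          False from this 64 σ hσ hfail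
    intro fuel
    induction fuel with
    | zero => intro σ _ h; simp [stripTo] at h
    | succ fuel ihf =>
      intro σ hσ h
      rw [List.map_cons, stripTo] at h
      have hq : natApply σ l.base = (σ ⟨l.base, hb⟩).1 := dif_pos hb
      split_ifs at h with h1 h2
      · rw [Nat.beq_eq, hq] at h1
        refine ih _ ht.2 hok.2 σ ⟨hσ.1, fun i hi => ?_⟩ h
        rcases List.mem_cons.1 hi with hi | hi
        · obtain rfl : i = ⟨l.base, hb⟩ := Fin.ext hi
          exact Fin.ext h1
        · exact hσ.2 i hi
      · simp only [force_eq, Bool.and_eq_true, Nat.blt_eq] at h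
        obtain ⟨hw, hs⟩ := h
        generalize Nat.add (get32 l.R _) half = w at hw hs
        have hg := hmem (l.gens.getD w 0)
          (by rw [List.getD_eq_getElem _ _ hw]; exact List.getElem_mem hw)
        generalize l.gens.getD w 0 = g at hg hs
        obtain ⟨x, hx⟩ := hP g hg.1
        refine ihf ((ρ x)⁻¹ * σ) (mul_mem ⟨inv_mem ⟨x, rfl⟩, fun i hi => Fin.ext ?_⟩ hσ) ?_
        · rw [hx, hg.2 i.1 hi]
        · rw [← hs]
          congr 1
          rw [show natApply σ l.base :: List.map (fun l => natApply σ l.base) ls =
            (l :: ls).map fun l => natApply σ l.base from rfl, List.map_map]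
          refine List.map_congr_left fun m hm => ?_
          have hmb : m.base < N := by
            rcases List.mem_cons.1 hm with rfl | hm
            · exact hb
            · exact levels_base hok.2 m hm
          simp only [Function.comp_apply, natApply, dif_pos hmb, Equiv.Perm.mul_apply, hx, tab,
            Nat.add_eq, Nat.mul_eq]
      · exact h2 (ht.1 σ hσ ⟨l.base, hb⟩ rfl |> fun hh => by rwa [hq])

end Cfsg.Agent.Lib.CosetEnum
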