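import Cfsg.Agent.Lib.CosetEnum.Main
import Cfsg.Agent.Lib.CosetEnum.Slp

/-!
Order and simplicity from an exact enumeration, an upper bound on the subgroup, a stabiliser
chain, the suborbits and an enumeration showing that one element normally generates.
-/

set_option autoImplicit false

namespace Cfsg.Agent.Lib.CosetEnum

open scoped Pointwise

variable {G : Type*} [Group G] {H : Subgroup G}

/-- If the image is at least as big as the upper bound, the order is exact and the action faithful. -/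
theorem card_of_bounds {N N' B : ℕ} (ρ : G →* Equiv.Perm (Fin N')) (hN : 0 < N) (hidx : H.index = N)
    (hH : Nat.card H ≠ 0 ∧ Nat.card H ≤ B) (hge : N * B ≤ Nat.card ρ.range) :
    Nat.card G = N * B ∧ Nat.card H = B ∧ Function.Injective ρ := by
  have hmul : Nat.card H * H.index = Nat.card G := H.card_mul_index
  rw [hidx] at hmul
  have hG0 : Nat.card G ≠ 0 := by
    rw [← hmul]; exact Nat.mul_ne_zero hH.1 (by omega)
  have : Finite G := Nat.finite_of_card_ne_zero hG0
  have h1 : Nat.card ρ.range ≤ Nat.card G :=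
    Nat.card_le_card_of_surjective ρ.rangeRestrict ρ.rangeRestrict_surjective
  have h2 : Nat.card G ≤ N * B := by
    rw [← hmul, Nat.mul_comm]; exact Nat.mul_le_mul_left _ hH.2
  have hG : Nat.card G = N * B := by omega
  refine ⟨hG, ?_, ?_⟩
  · rw [hG, Nat.mul_comm] at hmul
    exact Nat.eq_of_mul_eq_mul_left hN hmul
  · have hbij : Function.Bijective ρ.rangeRestrict :=
      (Nat.bijective_iff_surjective_and_card _).2 ⟨ρ.rangeRestrict_surjective, by omega⟩
    intro a b hab
    exact hbij.1 (Subtype.ext hab)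

/-- An `H`-invariant set containing the base point whose size divides `N` is trivial, given a
cover by `H`-orbits whose sizes admit no other choice. -/
theorem no_block {N r : ℕ} (ρ : G →* Equiv.Perm (Fin N)) (x₀ : Fin N) (reps : Fin r → Fin N)
    (sizes : Fin r → ℕ) (hsz : ∀ j, {y | ∃ a ∈ H, ρ a (reps j) = y}.ncard = sizes j)
    (hcover : ∀ y, y = x₀ ∨ ∃ j, ∃ a ∈ H, ρ a (reps j) = y) (hsum : 1 + ∑ j, sizes j = N)
    (hdiv : ∀ J : Finset (Fin r), 1 + ∑ j ∈ J, sizes j ∣ N → J = ∅ ∨ J = Finset.univ)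
    (O : Set (Fin N)) (h0 : x₀ ∈ O) (hinv : ∀ a ∈ H, ∀ y ∈ O, ρ a y ∈ O) (hO : O.ncard ∣ N) :
    O = {x₀} ∨ O = Set.univ := by
  classical
  let J : Finset (Fin r) := Finset.univ.filter fun j => reps j ∈ O
  let S : Fin r → Set (Fin N) := fun j => {y | ∃ a ∈ H, ρ a (reps j) = y}
  have hup : ∀ I : Finset (Fin r), (⋃ j ∈ I, S j).ncard ≤ ∑ j ∈ I, sizes j := by
    intro I
    refine (Finset.set_ncard_biUnion_le I S).trans (le_of_eq ?_)
    exact Finset.sum_congr rfl fun j _ => hsz j
  have hin : O ⊆ {x₀} ∪ ⋃ j ∈ J, S j := by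
    intro y hy
    rcases hcover y with rfl | ⟨j, a, ha, rfl⟩
    · exact Or.inl rfl
    · refine Or.inr (Set.mem_biUnion (x := j) ?_ ⟨a, ha, rfl⟩)
      have := hinv a⁻¹ (H.inv_mem ha) _ hy
      rw [map_inv] at this
      simpa [J] using this
  have hout : Oᶜ ⊆ ⋃ j ∈ Finset.univ \ J, S j := by
    intro y hy
    rcases hcover y with rfl | ⟨j, a, ha, rfl⟩
    · exact absurd h0 hy
    · refine Set.mem_biUnion (x := j) ?_ ⟨a, ha, rfl⟩
      simp only [J, Finset.coe_sdiff, Finset.coe_univ, Set.mem_sdiff, Set.mem_univ, true_and,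
        Finset.coe_filter, Finset.mem_univ, Set.mem_setOf_eq]
      exact fun h => hy (hinv a ha _ h)
  have b1 : O.ncard ≤ 1 + ∑ j ∈ J, sizes j := by
    refine (Set.ncard_le_ncard hin).trans ((Set.ncard_union_le _ _).trans ?_)
    rw [Set.ncard_singleton]
    exact Nat.add_le_add_left (hup J) 1
  have b2 : Oᶜ.ncard ≤ ∑ j ∈ Finset.univ \ J, sizes j := (Set.ncard_le_ncard hout).trans (hup _)
  have b3 := Set.ncard_add_ncard_compl O
  rw [Nat.card_fin] at b3
  have b4 := Finset.sum_sdiff (f := sizes) (Finset.subset_univ J)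
  have heq : O.ncard = 1 + ∑ j ∈ J, sizes j := by omega
  rcases hdiv J (heq ▸ hO) with hJ | hJ
  · left
    rw [hJ, Finset.sum_empty, Nat.add_zero, Set.ncard_eq_one] at heq
    obtain ⟨a, rfl⟩ := heq
    rw [Set.mem_singleton_iff] at h0
    rw [h0]
  · right
    rw [Set.eq_univ_iff_ncard, Nat.card_fin, heq, hJ, hsum]

/-- A faithful primitive group in which an element forced into every non-trivial normal subgroup
normally generates is simple. -/
theorem isSimple_of_primitive [Finite G] {N : ℕ} (ρ : G →* Equiv.Perm (Fin N)) (x₀ : Fin N)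
    (hN : 1 < N) (hinj : Function.Injective ρ) (hst : ∀ g, g ∈ H ↔ ρ g x₀ = x₀)
    (htr : ∀ x, ∃ g, ρ g x₀ = x)
    (hblock : ∀ O : Set (Fin N), x₀ ∈ O → (∀ a ∈ H, ∀ y ∈ O, ρ a y ∈ O) → O.ncard ∣ N →
      O = {x₀} ∨ O = Set.univ)
    (w : G) (p : ℕ) (hwp : w ^ p = 1) (hp : Nat.Coprime p (Nat.card H))
    (hgen : ∀ N' : Subgroup G, N'.Normal → w ∈ N' → N' = ⊤) : IsSimpleGroup G := by
  classical
  have hne : ∃ g : G, g ≠ 1 := by
    obtain ⟨g, hg⟩ := htr (if x₀ = ⟨0, by omega⟩ then ⟨1, hN⟩ else ⟨0, by omega⟩)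
    refine ⟨g, fun h => ?_⟩
    rw [h, map_one, Equiv.Perm.one_apply] at hg
    split at hg
    · rename_i h0
      rw [h0] at hg
      exact absurd (congrArg Fin.val hg) (by simp)
    · rename_i h0
      exact h0 hg
  haveI : Nontrivial G := ⟨let ⟨g, hg⟩ := hne; ⟨g, 1, hg⟩⟩
  refine ⟨fun N' hN' => ?_⟩
  by_cases hle : N' ≤ H
  · left
    rw [eq_bot_iff]
    intro n hn
    rw [Subgroup.mem_bot]
    apply hinj
    apply Equiv.ext
    intro y
    obtain ⟨g, rfl⟩ := htr y
    have h := (hst _).1 (hle (hN'.conj_mem n hn g⁻¹))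
    rw [inv_inv, map_mul, map_mul, map_inv, Equiv.Perm.mul_apply, Equiv.Perm.mul_apply,
      Equiv.Perm.inv_def, Equiv.symm_apply_eq] at h
    rw [map_one, Equiv.Perm.one_apply, h]
  · right
    refine hgen N' hN' ?_
    let K := N' ⊔ H
    let O : Set (Fin N) := {y | ∃ k ∈ K, ρ k x₀ = y}
    have hOcard : O.ncard * Nat.card H = Nat.card K := by
      letI : MulAction G (Fin N) := MulAction.compHom _ ρ
      have hsmul : ∀ (g : G) (x : Fin N), g • x = ρ g x := fun _ _ => rfl
      have ho : MulAction.orbit K x₀ = O := by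
        ext y
        constructor
        · rintro ⟨k, rfl⟩; exact ⟨k, k.2, rfl⟩
        · rintro ⟨k, hk, rfl⟩; exact ⟨⟨k, hk⟩, rfl⟩
      have hs : MulAction.stabilizer K x₀ = H.subgroupOf K := by
        ext k
        rw [MulAction.mem_stabilizer_iff, Subgroup.mem_subgroupOf, hst]
        rfl
      have hq : Nat.card (MulAction.orbit K x₀) * Nat.card (MulAction.stabilizer K x₀) = Nat.card K := by
        rw [Nat.card_congr (MulAction.orbitEquivQuotientStabilizer K x₀), ← Subgroup.index]
        exact Subgroup.index_mul_card _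
      rw [hs, Nat.card_coe_set_eq, ho,
        Nat.card_congr (Subgroup.subgroupOfEquivOfLe (le_sup_right : H ≤ K)).toEquiv] at hq
      exact hq
    have hH0 : 0 < Nat.card H := Nat.card_pos
    have hidx : H.index = N := by
      letI : MulAction G (Fin N) := MulAction.compHom _ ρ
      have hpre : MulAction.IsPretransitive G (Fin N) := ⟨fun a b => by
        obtain ⟨g, rfl⟩ := htr a
        obtain ⟨g', rfl⟩ := htr b
        exact ⟨g' * g⁻¹, by
          change ρ (g' * g⁻¹) (ρ g x₀) = ρ g' x₀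
          rw [map_mul, map_inv]; simp⟩⟩
      have hs : MulAction.stabilizer G x₀ = H := by
        ext g; rw [hst]; rfl
      rw [← hs, MulAction.index_stabilizer_of_transitive, Nat.card_fin]
    have hG : N * Nat.card H = Nat.card G := by rw [← hidx]; exact H.index_mul_card
    have hOdvd : O.ncard ∣ N := by
      have h := Subgroup.card_subgroup_dvd_card K
      rw [← hOcard, ← hG] at h
      exact Nat.dvd_of_mul_dvd_mul_right hH0 h
    have hOinv : ∀ a ∈ H, ∀ y ∈ O, ρ a y ∈ O := by
      rintro a ha _ ⟨k, hk, rfl⟩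
      exact ⟨a * k, mul_mem ((le_sup_right : H ≤ K) ha) hk, by rw [map_mul]; rfl⟩
    rcases hblock O ⟨1, one_mem _, by simp⟩ hOinv hOdvd with hO | hO
    · exfalso
      apply hle
      intro n hn
      rw [hst]
      have : ρ n x₀ ∈ O := ⟨n, (le_sup_left : N' ≤ K) hn, rfl⟩
      rw [hO] at this
      exact this
    · have hK : K = ⊤ := by
        apply Subgroup.eq_top_of_card_eq
        rw [← hOcard, hO, Set.ncard_univ, Nat.card_fin, hG]
      haveI := hN'
      have hsurj : Function.Surjective ((QuotientGroup.mk' N').comp H.subtype) := by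
        intro q
        obtain ⟨g, rfl⟩ := QuotientGroup.mk'_surjective N' q
        have hg : g ∈ N' ⊔ H := by rw [show N' ⊔ H = ⊤ from hK]; trivial
        rw [← SetLike.mem_coe, Subgroup.normal_mul N' H] at hg
        obtain ⟨n, hn, h, hh, rfl⟩ := hg
        refine ⟨⟨h, hh⟩, ?_⟩
        change QuotientGroup.mk' N' h = QuotientGroup.mk' N' (n * h)
        rw [map_mul, show QuotientGroup.mk' N' n = 1 from (QuotientGroup.eq_one_iff n).2 hn, one_mul]
      have hdvd : Nat.card (G ⧸ N') ∣ Nat.card H := Subgroup.card_dvd_of_surjective _ hsurj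
      rw [← QuotientGroup.eq_one_iff]
      have h1 : orderOf ((w : G) : G ⧸ N') ∣ p :=
        orderOf_dvd_of_pow_eq_one (by rw [← QuotientGroup.mk_pow, hwp]; rfl)
      have h2 : orderOf ((w : G) : G ⧸ N') ∣ Nat.card H := (orderOf_dvd_natCard _).trans hdvd
      exact orderOf_eq_one_iff.1 (Nat.eq_one_of_dvd_coprimes hp h1 h2)

variable {α : Type} [DecidableEq α]

/-- An enumeration of the trivial subgroup with one more relator: the element normally generates. -/
theorem eq_top_of_enum (L : Letters α) (S : Set (FreeGroup α)) (hS : ∀ r ∈ L.rels, r ∈ S)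
    (hok : L.OK) (hcol : ∀ a, L.col a < L.K ∧ L.sym (L.col a) = (a, true))
    (wl : List ℕ) (hwl : ∀ g ∈ wl, g < L.K) (d : Data) (D M : ℕ) (T V E : PTree)
    (hdK : d.K = L.K) (hdI : d.IV = L.IV) (hnR : d.nR = L.RL.length + 1) (hnW : d.nW = d.nR)
    (hW : ∀ i < d.nW, getWord d.W i = pack ((L.RL ++ [wl]).getD i []))
    (hgood : ∀ (G' : Type) (_ : Group G') (φ : ℕ → G') (H : Subgroup G'), Valid d φ H →
      ∀ i < M, Good d D φ H i)
    (hV0 : get32 V 0 = 0) (hE : edgesOK d M 1 T V E = true)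
    (N' : Subgroup (PresentedGroup S)) (hN' : N'.Normal)
    (hw : (wl.map (L.phi S)).prod ∈ N') : N' = ⊤ := by
  haveI := hN'
  let φ : ℕ → PresentedGroup S ⧸ N' := fun g => QuotientGroup.mk' N' (L.phi S g)
  have hprod : ∀ l : List ℕ, (l.map φ).prod = QuotientGroup.mk' N' (l.map (L.phi S)).prod := by
    intro l
    rw [map_list_prod, List.map_map]
    rfl
  have h32 := hok.1
  have hlist : ∀ l ∈ L.RL ++ [wl], (∀ g ∈ l, g < L.K) ∧ (l.map φ).prod = 1 := by
    intro l hl
    rcases List.mem_append.1 hl with hl | hl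
    · exact ⟨(hok.2.2.2.1 l hl).1, by rw [hprod, Letters.prod_rel hS hok hcol hl, map_one]⟩
    · rw [List.mem_singleton.1 hl]
      exact ⟨hwl, by rw [hprod]; exact (QuotientGroup.eq_one_iff _).2 hw⟩
  have hV : Valid d φ (⊥ : Subgroup (PresentedGroup S ⧸ N')) := by
    have key : ∀ w < d.nW, ev φ (getWord d.W w) = 1 := by
      intro w hw'
      have hlen : w < (L.RL ++ [wl]).length := by simp; omega
      rw [hW w hw', List.getD_eq_getElem _ _ hlen, ev_pack]
      · exact (hlist _ (List.getElem_mem hlen)).2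
      · intro g hg
        have := (hlist _ (List.getElem_mem hlen)).1 g hg
        omega
    refine ⟨by omega, by simp [φ, Letters.phi, hdK], fun g hg => ?_, fun w hw' => key w (by omega),
      fun w hw' => by rw [key w hw']; exact Subgroup.one_mem _⟩
    rw [hdI, hdK]
    obtain ⟨h1, h2⟩ := Letters.phi_inv hS hok (hdK ▸ hg)
    exact ⟨h1, by simp only [φ, h2, map_inv]⟩
  rw [eq_top_iff]
  intro x _
  rw [← QuotientGroup.eq_one_iff]
  have hclo : ∀ y : PresentedGroup S, QuotientGroup.mk' N' y ∈ Subgroup.closure {z | ∃ g < d.K, φ g = z} := by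
    intro y
    have hy : y ∈ Subgroup.closure {z | ∃ g < L.K, L.phi S g = z} := by
      rw [Letters.gen_closure hcol]; trivial
    have h := Subgroup.mem_map_of_mem (QuotientGroup.mk' N') hy
    rw [MonoidHom.map_closure] at h
    refine Subgroup.closure_mono ?_ h
    rintro _ ⟨_, ⟨g, hg, rfl⟩, rfl⟩
    exact ⟨g, by omega, rfl⟩
  obtain ⟨i, hi, hm⟩ := rep_covers hV hE (hgood _ _ φ ⊥ hV) Nat.one_pos hV0
    (fun g hg => ⟨invL d.IV g, by
      have := (hok.2.2.1 g (by omega)).1
      rw [hdI, hdK]; omega, (hV.inv g hg.le).2⟩) (QuotientGroup.mk' N' x) (hclo x)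
  obtain rfl : i = 0 := by omega
  rw [hV0, rep_zero, inv_one, mul_one, Subgroup.mem_bot] at hm
  exact hm

/-- The table scans a word as the inverse image of the action. -/
theorem rho_scan (L : Letters α) (S : Set (FreeGroup α)) {N : ℕ} {T : PTree}
    (ρ : PresentedGroup S →* Equiv.Perm (Fin N))
    (hρ : ∀ g < L.K, ∀ i : Fin N, ((ρ (L.phi S g))⁻¹ i).1 = get32 T (i.1 * L.K + g)) :
    ∀ l : List ℕ, (∀ g ∈ l, g < L.K) → ∀ i : Fin N,
      ((ρ (l.map (L.phi S)).prod)⁻¹ i).1 = scan L.K T l i.1 := by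
  intro l
  induction l with
  | nil => intro _ i; simp [scan]
  | cons g l ih =>
    intro hl i
    rw [List.map_cons, List.prod_cons, map_mul, mul_inv_rev, Equiv.Perm.mul_apply,
      ih (fun x hx => hl x (List.mem_cons_of_mem _ hx)), hρ g (hl g List.mem_cons_self)]
    change scan L.K T l (get32 T (i.1 * L.K + g)) =
      force (get32 T (Nat.add (Nat.mul i.1 L.K) g)) (scan L.K T l)
    rw [force_eq]; rfl

/-- A word acting trivially is trivial when the action is faithful. -/
theorem pow_eq_one_of_table (L : Letters α) (S : Set (FreeGroup α)) {N : ℕ} {T : PTree}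
    (ρ : PresentedGroup S →* Equiv.Perm (Fin N))
    (hρ : ∀ g < L.K, ∀ i : Fin N, ((ρ (L.phi S g))⁻¹ i).1 = get32 T (i.1 * L.K + g))
    (hinj : Function.Injective ρ) (w : List ℕ) (hw : ∀ g ∈ w, g < L.K) (p : ℕ)
    (h : (allBelow N fun i => Nat.beq (scan L.K T (List.replicate p w).flatten i) i) = true) :
    (w.map (L.phi S)).prod ^ p = 1 := by
  have hp : ((List.replicate p w).flatten.map (L.phi S)).prod = (w.map (L.phi S)).prod ^ p := by
    clear h
    induction p with
    | zero => simp
    | succ p ih => rw [List.replicate_succ, List.flatten_cons, List.map_append, List.prod_append, ih, pow_succ']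
  apply hinj
  rw [map_one, ← hp, ← inv_eq_one]
  apply Equiv.ext
  intro i
  apply Fin.ext
  rw [rho_scan L S ρ hρ _ (by
    intro g hg
    obtain ⟨l, hl, hgl⟩ := List.mem_flatten.1 hg
    rw [(List.mem_replicate.1 hl).2] at hgl
    exact hw g hgl)]
  exact Nat.eq_of_beq_eq_true (allBelow_iff.1 h i.1 i.2)

/-- The suborbit cover: each point is the base point or sits in one of the listed orbits. -/
noncomputable def coverAt (orbs : List (ℕ × PTree × PTree)) (i : ℕ) : Bool :=
  Nat.beq i 0 || List.rec (motive := fun _ => Bool) false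
    (fun o _ ih => (force (get32 o.2.2 i) fun p => Nat.blt p o.1 && Nat.beq (get32 o.2.1 p) i) || ih) orbs

end Cfsg.Agent.Lib.CosetEnum
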