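import Cfsg.Agent.Lib.CosetEnum.BasePts
import Cfsg.Prelude.Def_KGroupFacts

/-!
The outer automorphism group of order two, certified in a permutation model: a triple `x, s, t` with
`⟨x⟩` a Sylow subgroup of prime order, `s` normalising `⟨x⟩`, `t` normalising `⟨s⟩`, with the
centralisers of `x` and `s` found by sifting, and every candidate for the image of the triple decided.
-/

set_option autoImplicit false

namespace Cfsg.Agent.Lib.CosetEnum

/-- A point under a word in tabled elements. -/
noncomputable def app (T : ℕ → ℕ → ℕ) : List ℕ → ℕ → ℕ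
  | [], i => i
  | k :: w, i => force (T k i) (app T w)

/-- Two words agree on the listed points. -/
noncomputable def eqW (T : ℕ → ℕ → ℕ) (bs : List ℕ) (w₁ w₂ : List ℕ) : Bool :=
  bs.all fun b => Nat.beq (app T w₁ b) (app T w₂ b)

/-- The orbit of `j` under one element, along the levels. -/
noncomputable def cyc (T : ℕ → ℕ → ℕ) (k : ℕ) : List OrbLevel → ℕ → List ℕ
  | [], _ => []
  | _ :: ls, j => j :: force (T k j) (cyc T k ls)

/-- Each base point is the image of the previous one. -/
noncomputable def cycBase (T : ℕ → ℕ → ℕ) (k : ℕ) : List OrbLevel → Bool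
  | l :: m :: ls => Nat.beq (T k l.base) m.base && cycBase T k (m :: ls)
  | _ => true

/-- Equality of lists. -/
noncomputable def eqList : List ℕ → List ℕ → Bool
  | [], [] => true
  | a :: as, b :: bs => Nat.beq a b && eqList as bs
  | _, _ => false

/-- The base can go to the orbit of `j` only by one of the elements `U`. -/
noncomputable def centAt (N : ℕ) (P : PTree) (T : ℕ → ℕ → ℕ) (s : ℕ) (ls : List OrbLevel)
    (U : List ℕ) (j : ℕ) : Bool :=
  siftFail N P ls (cyc T s ls j) ||
    U.any fun u => eqList (cyc T s ls j) (ls.map fun l => T u l.base)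

theorem eqList_eq : ∀ {a b : List ℕ}, eqList a b = true → a = b
  | [], [], _ => rfl
  | a :: as, b :: bs, h => by
    simp only [eqList, Bool.and_eq_true, Nat.beq_eq] at h
    rw [h.1, eqList_eq h.2]
  | [], _ :: _, h => by simp [eqList] at h
  | _ :: _, [], h => by simp [eqList] at h

/-- A finite group acting faithfully, with tabled elements and a base. -/
structure Model (G : Type) [Group G] (N : ℕ) where
  ρ : G →* Equiv.Perm (Fin N)
  inj : Function.Injective ρ
  E : ℕ
  el : ℕ → G
  T : ℕ → ℕ → ℕ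
  hel : ∀ k < E, ∀ i : Fin N, ((ρ (el k))⁻¹ i).1 = T k i.1
  bs : List ℕ
  bs_lt : ∀ b ∈ bs, b < N
  base : ∀ g : G, (∀ b : Fin N, b.1 ∈ bs → (ρ g)⁻¹ b = b) → g = 1

namespace Model

variable {G : Type} [Group G] {N : ℕ} (M : Model G N)

/-- The value of a word. -/
def val (w : List ℕ) : G := (w.map M.el).prod

theorem app_spec : ∀ w : List ℕ, (∀ k ∈ w, k < M.E) → ∀ i : Fin N,
    ((M.ρ (M.val w))⁻¹ i).1 = app M.T w i.1 := by
  intro w
  induction w with
  | nil => intro _ i; simp [val, app]
  | cons k w ih =>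
    intro hw i
    have h1 : M.val (k :: w) = M.el k * M.val w := by simp [val]
    rw [h1, map_mul, mul_inv_rev, Equiv.Perm.mul_apply,
      ih fun x hx => hw x (List.mem_cons_of_mem _ hx), M.hel k (hw k List.mem_cons_self), app, force_eq]

/-- Words that are equal in the group are exactly those agreeing on the base. -/
theorem eqW_iff {w₁ w₂ : List ℕ} (h₁ : ∀ k ∈ w₁, k < M.E) (h₂ : ∀ k ∈ w₂, k < M.E) :
    eqW M.T M.bs w₁ w₂ = true ↔ M.val w₁ = M.val w₂ := by
  simp only [eqW, List.all_eq_true, Nat.beq_eq]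
  constructor
  · intro h
    rw [← mul_inv_eq_one]
    refine M.base _ fun b hb => ?_
    rw [map_mul, map_inv, mul_inv_rev, inv_inv, Equiv.Perm.mul_apply]
    have hh : (M.ρ (M.val w₁))⁻¹ b = (M.ρ (M.val w₂))⁻¹ b :=
      Fin.ext (by rw [M.app_spec _ h₁, M.app_spec _ h₂]; exact h b.1 hb)
    rw [hh]
    simp
  · intro h b hb
    rw [← M.app_spec _ h₁ ⟨b, M.bs_lt b hb⟩, ← M.app_spec _ h₂ ⟨b, M.bs_lt b hb⟩, h]

theorem eq_of_eqW {w₁ w₂ : List ℕ} (h₁ : ∀ k ∈ w₁, k < M.E) (h₂ : ∀ k ∈ w₂, k < M.E)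
    (h : eqW M.T M.bs w₁ w₂ = true) : M.val w₁ = M.val w₂ :=
  (M.eqW_iff h₁ h₂).1 h

theorem cyc_spec {s : ℕ} (hs : s < M.E) {g : G} (hg : g * M.el s = M.el s * g) :
    ∀ (ls : List OrbLevel) (l : OrbLevel), (∀ m ∈ l :: ls, m.base < N) →
      cycBase M.T s (l :: ls) = true →
      (l :: ls).map (fun m => natApply (M.ρ g)⁻¹ m.base) =
        cyc M.T s (l :: ls) (natApply (M.ρ g)⁻¹ l.base) := by
  intro ls
  induction ls with
  | nil => intro l _ _; simp [cyc]
  | cons m ls ih =>
    intro l hlt hb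
    simp only [cycBase, Bool.and_eq_true, Nat.beq_eq] at hb
    rw [List.map_cons, ih m (fun x hx => hlt x (List.mem_cons_of_mem _ hx)) hb.2]
    conv_rhs => rw [cyc, force_eq]
    have hl := hlt l List.mem_cons_self
    have hm := hlt m (List.mem_cons_of_mem _ List.mem_cons_self)
    congr 2
    simp only [natApply, dif_pos hl, dif_pos hm, ← M.hel s hs]
    have hmb : (⟨m.base, hm⟩ : Fin N) = (M.ρ (M.el s))⁻¹ ⟨l.base, hl⟩ :=
      Fin.ext (by rw [M.hel s hs]; exact hb.1.symm)
    rw [hmb, ← Equiv.Perm.mul_apply, ← Equiv.Perm.mul_apply, ← mul_inv_rev, ← mul_inv_rev,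
      ← map_mul, ← map_mul, hg]

/-- The centraliser of an element consists of listed elements. -/
theorem cent {E : ℕ} {P : PTree}
    (hP : ∀ k < E, ∃ x : G, ∀ i : Fin N, ((M.ρ x)⁻¹ i).1 = get32 P (k * N + i.1))
    (l : OrbLevel) (ls : List OrbLevel) (hls : levelsOK E N P (l :: ls) [] = true)
    (ht : Tight M.ρ (l :: ls) []) {s : ℕ} (hs : s < M.E) (U : List ℕ) (hU : ∀ u ∈ U, u < M.E)
    (hb : cycBase M.T s (l :: ls) = true)
    (hc : allBelow N (centAt N P M.T s (l :: ls) U) = true) :
    ∀ g : G, g * M.el s = M.el s * g → ∃ u ∈ U, g = M.el u := by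
  intro g hg
  have hlt : ∀ m ∈ l :: ls, m.base < N := levels_base hls
  have hmem : (M.ρ g)⁻¹ ∈ fixList M.ρ [] := ⟨⟨g⁻¹, map_inv _ _⟩, by simp⟩
  have heq := M.cyc_spec hs hg ls l hlt hb
  have hl := hlt l List.mem_cons_self
  have hj : natApply (M.ρ g)⁻¹ l.base < N := by simp [natApply, dif_pos hl]
  have h := allBelow_iff.1 hc _ hj
  rw [centAt, Bool.or_eq_true, ← heq] at h
  rcases h with h | h
  · exact (siftFail_sound M.ρ hP _ _ ht hls _ hmem h).elim
  · rw [List.any_eq_true] at h
    obtain ⟨u, hu, h⟩ := h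
    have h' := eqList_eq h
    refine ⟨u, hu, mul_inv_eq_one.1 (M.inj ?_)⟩
    rw [map_one, ← inv_eq_one]
    refine Tight.eq_one M.ρ ht _ ⟨⟨_, map_inv _ _⟩, by simp⟩ fun m hm b hbm => ?_
    have hpt : natApply (M.ρ g)⁻¹ m.base = M.T u m.base := List.map_inj_left.1 h' m hm
    rw [map_mul, map_inv, mul_inv_rev, inv_inv, Equiv.Perm.mul_apply]
    have hh : (M.ρ g)⁻¹ b = (M.ρ (M.el u))⁻¹ b := by
      apply Fin.ext
      rw [M.hel u (hU u hu)]
      simpa [natApply, dif_pos (hlt m hm), ← hbm] using hpt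
    rw [hh]
    simp

end Model

/-- A word of letters `0, 1, 2` with words substituted. -/
def subst (a b c : List ℕ) (w : List ℕ) : List ℕ := w.flatMap fun i => [a, b, c].getD i []

/-- The data of a certified triple: indices of elements. -/
structure Trip where
  x : ℕ
  s : ℕ
  t : ℕ
  /-- images of the triple under the outer automorphism -/
  ex : ℕ
  es : ℕ
  et : ℕ
  p : ℕ
  r : ℕ
  e : ℕ
  /-- powers of `x` -/
  X : List ℕ
  /-- centraliser of `s` -/
  U : List ℕ
  rels : List (List ℕ)

/-- The power `k` of `x`. -/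
def Trip.xp (c : Trip) (k : ℕ) : ℕ := c.X.getD k 0

/-- Whether a candidate image of the triple is settled. -/
noncomputable def candOK (T : ℕ → ℕ → ℕ) (bs : List ℕ) (c : Trip) (k u : ℕ) : Bool :=
  c.rels.any (fun w => !(eqW T bs (subst [c.xp k] [c.s] [c.t, u] w) [])) ||
  c.U.any fun g =>
    (eqW T bs [g, c.x] [c.xp k, g] && eqW T bs [g, c.t] [c.t, u, g]) ||
    (eqW T bs [g, c.ex] [c.xp k, g] && eqW T bs [g, c.et] [c.t, u, g])

/-- Every check on a triple. -/
noncomputable def tripOK (T : ℕ → ℕ → ℕ) (bs : List ℕ) (E : ℕ) (c : Trip) : Bool :=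
  ([c.x, c.s, c.t, c.ex, c.es, c.et] ++ c.X ++ c.U).all (fun i => Nat.blt i E) &&
  c.rels.all (fun w => w.all (fun i => Nat.blt i 3) && eqW T bs (subst [c.x] [c.s] [c.t] w) []) &&
  Nat.beq c.X.length c.p && eqW T bs [c.xp 0] [] &&
  allBelow (c.p - 1) (fun k => eqW T bs [c.xp (Nat.add k 1)] [c.xp k, c.x]) &&
  eqW T bs [c.xp (c.p - 1), c.x] [] && !(eqW T bs [c.x] []) &&
  eqW T bs [c.s, c.x] (List.replicate c.r c.x ++ [c.s]) &&
  eqW T bs [c.t, c.s] (List.replicate c.e c.s ++ [c.t]) &&
  eqW T bs [c.es] [c.s] &&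
  c.X.all (fun i => c.X.any fun m => eqW T bs [c.s, i, m] [m, c.s]) &&
  c.U.all (fun g => eqW T bs [g, c.s] [c.s, g]) &&
  c.U.all (fun g => !(eqW T bs [g, c.x] [c.ex, g] && eqW T bs [g, c.t] [c.et, g])) &&
  allBelow c.p (fun k => Nat.beq k 0 || c.U.all (candOK T bs c k))

theorem subst_val {G : Type} [Group G] {N : ℕ} (M : Model G N) (a b c : List ℕ) (A B C : G)
    (ha : M.val a = A) (hb : M.val b = B) (hc : M.val c = C) :
    ∀ w : List ℕ, (∀ i ∈ w, i < 3) → M.val (subst a b c w) = (w.map fun i => [A, B, C].getD i 1).prod := by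
  intro w
  induction w with
  | nil => intro _; rfl
  | cons i w ih =>
    intro hw
    rw [List.map_cons, List.prod_cons, ← ih fun x hx => hw x (List.mem_cons_of_mem _ hx), subst,
      List.flatMap_cons, Model.val, List.map_append, List.prod_append]
    have hi := hw i List.mem_cons_self
    congr 1
    match i, hi with
    | 0, _ => exact ha
    | 1, _ => exact hb
    | 2, _ => exact hc

open Cfsg in
/-- The criterion. -/
theorem card_out_two {G : Type} [Group G] [Finite G] {N : ℕ} (M : Model G N) (c : Trip)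
    (h : tripOK M.T M.bs M.E c = true) (hp : c.p.Prime) (hp2 : ¬ c.p ^ 2 ∣ Nat.card G)
    (hgen : Subgroup.closure ({M.el c.x, M.el c.s, M.el c.t} : Set G) = ⊤)
    (hcx : ∀ g : G, g * M.el c.x = M.el c.x * g → ∃ u ∈ c.X, g = M.el u)
    (hcs : ∀ g : G, g * M.el c.s = M.el c.s * g → ∃ u ∈ c.U, g = M.el u)
    (e : MulAut G) (hex : e (M.el c.x) = M.el c.ex) (hes : e (M.el c.s) = M.el c.es)
    (het : e (M.el c.t) = M.el c.et) :
    Nat.card (Out G) = 2 := by
  haveI : Fact c.p.Prime := ⟨hp⟩
  simp only [tripOK, Bool.and_eq_true, List.all_eq_true, List.any_eq_true, List.mem_append,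
    List.mem_cons, List.not_mem_nil, or_false, Nat.beq_eq, allBelow_iff, Bool.not_eq_true',
    Nat.blt_eq] at h
  obtain ⟨⟨⟨⟨⟨⟨⟨⟨⟨⟨⟨⟨⟨hlt, hrels⟩, hlen⟩, hX0⟩, hXs⟩, hXp⟩, hxne⟩, hsx⟩, hts⟩, hess⟩, hshift⟩,
    hUs⟩, hnin⟩, hcand⟩ := h
  set x := M.el c.x with hxdef
  set s := M.el c.s with hsdef
  set t := M.el c.t with htdef
  have hUlt : ∀ u ∈ c.U, u < M.E := fun u hu => hlt u (Or.inr hu)
  have hXlt : ∀ u ∈ c.X, u < M.E := fun u hu => hlt u (Or.inl (Or.inr hu))
  have hx : c.x < M.E := hlt _ (by simp)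
  have hs : c.s < M.E := hlt _ (by simp)
  have ht : c.t < M.E := hlt _ (by simp)
  have hxi : c.ex < M.E := hlt _ (by simp)
  have hti : c.et < M.E := hlt _ (by simp)
  have hsi : c.es < M.E := hlt _ (by simp)
  have hxpmem : ∀ k < c.p, c.xp k ∈ c.X := fun k hk => by
    rw [Trip.xp, List.getD_eq_getElem _ _ (hlen.symm ▸ hk)]; exact List.getElem_mem _
  have hxp : ∀ k < c.p, M.el (c.xp k) = x ^ k := by
    intro k
    induction k with
    | zero =>
      intro hk
      have := M.eq_of_eqW (by simpa using hXlt _ (hxpmem 0 hk)) (by simp) hX0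
      simpa [Model.val] using this
    | succ k ih =>
      intro hk
      have h1 := hXs k (by omega)
      have := M.eq_of_eqW (by simpa using hXlt _ (hxpmem (k + 1) hk))
        (by simpa using ⟨hXlt _ (hxpmem k (by omega)), hx⟩) h1
      simp only [Model.val, List.map_cons, List.map_nil, List.prod_cons, List.prod_nil, mul_one,
        Nat.add_eq] at this
      rw [this, ih (by omega), pow_succ]
  have hxlast : x ^ c.p = 1 := by
    have := M.eq_of_eqW (by simpa using ⟨hXlt _ (hxpmem (c.p - 1) (by have := hp.pos; omega)), hx⟩)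
      (by simp) hXp
    simp only [Model.val, List.map_cons, List.map_nil, List.prod_cons, List.prod_nil, mul_one] at this
    rwa [hxp _ (by have := hp.pos; omega), ← pow_succ, Nat.sub_add_cancel hp.pos] at this
  have hx1 : x ≠ 1 := by
    intro h1
    have : eqW M.T M.bs [c.x] [] = true :=
      (M.eqW_iff (by simpa using hx) (by simp)).2 (by simpa [Model.val] using h1)
    rw [this] at hxne
    exact Bool.noConfusion hxne
  have hox : orderOf x = c.p := orderOf_eq_prime hxlast hx1
  have hpow : ∀ m : ℕ, x ^ (m % c.p) = x ^ m := fun m => by rw [← hox]; exact pow_mod_orderOf _ _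
  have hsx' : s * x = x ^ c.r * s := by
    have := M.eq_of_eqW (by simpa using ⟨hs, hx⟩) (by
      intro k hk; rcases List.mem_append.1 hk with hk | hk
      · rw [List.eq_of_mem_replicate hk]; exact hx
      · rw [List.mem_singleton.1 hk]; exact hs) hsx
    simpa [Model.val, List.map_replicate] using this
  have hts' : t * s = s ^ c.e * t := by
    have := M.eq_of_eqW (by simpa using ⟨ht, hs⟩) (by
      intro k hk; rcases List.mem_append.1 hk with hk | hk
      · rw [List.eq_of_mem_replicate hk]; exact hs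
      · rw [List.mem_singleton.1 hk]; exact ht) hts
    simpa [Model.val, List.map_replicate] using this
  have hes' : e s = s := by
    rw [hes]
    simpa [Model.val] using M.eq_of_eqW (by simpa using hsi) (by simpa using hs) hess
  have hgcomm : ∀ g ∈ c.U, M.el g * s = s * M.el g := fun g hg => by
    simpa [Model.val] using M.eq_of_eqW (by simpa using ⟨hUlt g hg, hs⟩)
      (by simpa using ⟨hs, hUlt g hg⟩) (hUs g hg)
  -- every automorphism is normalised
  have hnorm : ∀ φ : MulAut G, ∃ g : G, ∃ k < c.p, k ≠ 0 ∧ ∃ u ∈ c.U,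
      φ x = g * x ^ k * g⁻¹ ∧ φ s = g * s * g⁻¹ ∧ φ t = g * (t * M.el u) * g⁻¹ := by
    intro φ
    obtain ⟨P⟩ : Nonempty (Sylow c.p G) := inferInstance
    have hoφ : orderOf (φ x) = c.p := by
      rw [← hox]; exact orderOf_injective φ.toMonoidHom φ.injective x
    -- Sylow subgroups have order p, so φ x is conjugate to a power of x
    have hzc : Nat.card (Subgroup.zpowers x) = c.p ^ (Nat.card G).factorization c.p := by
      have hd : c.p ∣ Nat.card G := hox ▸ orderOf_dvd_natCard x
      have h1 : (Nat.card G).factorization c.p = 1 := by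
        have a1 : 1 ≤ (Nat.card G).factorization c.p :=
          (hp.pow_dvd_iff_le_factorization Nat.card_pos.ne').1 (by rwa [pow_one])
        have a2 : ¬ 2 ≤ (Nat.card G).factorization c.p := fun hh =>
          hp2 ((hp.pow_dvd_iff_le_factorization Nat.card_pos.ne').2 hh)
        omega
      rw [Nat.card_zpowers, hox, h1, pow_one]
    have hzc' : Nat.card (Subgroup.zpowers (φ x)) = c.p ^ (Nat.card G).factorization c.p := by
      rw [Nat.card_zpowers, hoφ, ← hzc, Nat.card_zpowers, hox]
    obtain ⟨g, hg⟩ := MulAction.exists_smul_eq G (Sylow.ofCard _ hzc) (Sylow.ofCard _ hzc')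
    have hgmem : g⁻¹ * φ x * g ∈ Subgroup.zpowers x := by
      have : φ x ∈ ((g • Sylow.ofCard _ hzc : Sylow c.p G) : Subgroup G) := by
        rw [hg]; exact Subgroup.mem_zpowers _
      rw [Sylow.coe_subgroup_smul, Subgroup.mem_pointwise_smul_iff_inv_smul_mem] at this
      simpa [MulAut.smul_def, mul_assoc] using this
    obtain ⟨k, hk⟩ := (Submonoid.mem_powers_iff _ _).1 (mem_powers_iff_mem_zpowers.2 hgmem)
    have hk0 : k % c.p ≠ 0 := by
      intro h0
      rw [← hpow, h0, pow_zero] at hk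
      refine hx1 (φ.injective ?_)
      calc φ x = g * (g⁻¹ * φ x * g) * g⁻¹ := by group
        _ = 1 := by rw [← hk]; group
        _ = φ 1 := (map_one φ).symm
    have hφx : φ x = g * x ^ k * g⁻¹ := by rw [hk]; group
    obtain ⟨k', hk'⟩ : ∃ k' : ℕ, x = (x ^ k) ^ k' := by
      have hcop : Nat.Coprime k c.p := by
        rw [Nat.coprime_comm, hp.coprime_iff_not_dvd]
        exact fun h => hk0 (Nat.mod_eq_zero_of_dvd h)
      obtain ⟨m, hm⟩ := exists_pow_eq_self_of_coprime (x := x) (by rwa [hox])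
      exact ⟨m, hm.symm⟩
    -- the image of s
    obtain ⟨ψs, hψs⟩ : ∃ a, a = g⁻¹ * φ s * g := ⟨_, rfl⟩
    have h1 : ψs * x ^ k = s * x ^ k * s⁻¹ * ψs := by
      have ha : φ s * φ x = φ x ^ c.r * φ s := by rw [← map_mul, hsx', map_mul, map_pow]
      have hb : s * x ^ k * s⁻¹ = (x ^ k) ^ c.r := by
        rw [← conj_pow, show s * x * s⁻¹ = x ^ c.r by rw [hsx']; group, ← pow_mul, ← pow_mul, mul_comm]
      rw [hb, hψs]
      rw [hφx, conj_pow] at ha
      calc g⁻¹ * φ s * g * x ^ k = g⁻¹ * (φ s * (g * x ^ k * g⁻¹)) * g := by group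
        _ = _ := by rw [ha]; group
    have h2 : (s⁻¹ * ψs) * x ^ k * (s⁻¹ * ψs)⁻¹ = x ^ k := by
      calc _ = s⁻¹ * (ψs * x ^ k) * ψs⁻¹ * s := by group
        _ = _ := by rw [h1]; group
    have h3 : (s⁻¹ * ψs) * x * (s⁻¹ * ψs)⁻¹ = x := by
      conv_lhs => rw [hk']
      rw [← conj_pow, h2, ← hk']
    obtain ⟨i, hi, hieq⟩ := hcx _ (mul_inv_eq_iff_eq_mul.1 h3)
    obtain ⟨m, hm, hm'⟩ := hshift i hi
    have hmE := hXlt m hm
    have hconj := M.eq_of_eqW (by simpa using ⟨hs, hXlt i hi, hmE⟩) (by simpa using ⟨hmE, hs⟩) hm'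
    simp only [Model.val, List.map_cons, List.map_nil, List.prod_cons, List.prod_nil, mul_one] at hconj
    obtain ⟨a, ha⟩ : ∃ a : ℕ, M.el m = x ^ a := by
      obtain ⟨a, ha, rfl⟩ := List.mem_iff_getElem.1 hm
      exact ⟨a, by rw [← hxp a (hlen ▸ ha), Trip.xp, List.getD_eq_getElem _ _ ha]⟩
    have hψ : ψs = M.el m * s * (M.el m)⁻¹ := by
      rw [← hconj, ← hieq, ← hsdef]; group
    have hφs : φ s = (g * M.el m) * s * (g * M.el m)⁻¹ := by
      calc φ s = g * ψs * g⁻¹ := by rw [hψs]; group
        _ = _ := by rw [hψ]; group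
    have hφx' : φ x = (g * M.el m) * x ^ (k % c.p) * (g * M.el m)⁻¹ := by
      rw [hφx, hpow, ha]
      calc g * x ^ k * g⁻¹ = g * (x ^ k * x ^ a) * (x ^ a)⁻¹ * g⁻¹ := by group
        _ = g * (x ^ a * x ^ k) * (x ^ a)⁻¹ * g⁻¹ := by rw [← pow_add, ← pow_add, add_comm]
        _ = _ := by group
    generalize g * M.el m = w at hφs hφx'
    -- the image of t
    have h4 : (t⁻¹ * (w⁻¹ * φ t * w)) * s = s * (t⁻¹ * (w⁻¹ * φ t * w)) := by
      have ha : φ t * φ s = φ s ^ c.e * φ t := by rw [← map_mul, hts', map_mul, map_pow]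
      rw [hφs, conj_pow] at ha
      have hb : w⁻¹ * φ t * w * s = s ^ c.e * (w⁻¹ * φ t * w) := by
        calc w⁻¹ * φ t * w * s = w⁻¹ * (φ t * (w * s * w⁻¹)) * w := by group
          _ = _ := by rw [ha]; group
      calc t⁻¹ * (w⁻¹ * φ t * w) * s = t⁻¹ * (w⁻¹ * φ t * w * s) := by group
        _ = t⁻¹ * (s ^ c.e * t) * (t⁻¹ * (w⁻¹ * φ t * w)) := by rw [hb]; group
        _ = _ := by rw [← hts']; group
    obtain ⟨u, hu, hueq⟩ := hcs _ h4
    refine ⟨w, k % c.p, Nat.mod_lt _ hp.pos, hk0, u, hu, hφx', hφs, ?_⟩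
    rw [← hueq]; group
  -- e is not inner
  have hne : e ∉ Inn G := by
    rintro ⟨g, hg⟩
    have hcomm : g * s = s * g := by
      have : MulAut.conj g s = s := by rw [hg, hes']
      rw [MulAut.conj_apply] at this
      exact mul_inv_eq_iff_eq_mul.1 this
    obtain ⟨u, hu, hgu⟩ := hcs g hcomm
    have huE := hUlt u hu
    have h1 : eqW M.T M.bs [u, c.x] [c.ex, u] = true :=
      (M.eqW_iff (by simpa using ⟨huE, hx⟩) (by simpa using ⟨hxi, huE⟩)).2 (by
        simp only [Model.val, List.map_cons, List.map_nil, List.prod_cons, List.prod_nil, mul_one]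
        rw [← hgu, ← hex, ← hg, MulAut.conj_apply, ← hxdef]; group)
    have h2 : eqW M.T M.bs [u, c.t] [c.et, u] = true :=
      (M.eqW_iff (by simpa using ⟨huE, ht⟩) (by simpa using ⟨hti, huE⟩)).2 (by
        simp only [Model.val, List.map_cons, List.map_nil, List.prod_cons, List.prod_nil, mul_one]
        rw [← hgu, ← het, ← hg, MulAut.conj_apply, ← htdef]; group)
    have := hnin u hu
    simp [h1, h2] at this
  -- every automorphism is inner or inner times e
  have hall : ∀ φ : MulAut G, φ ∈ Inn G ∨ φ * e⁻¹ ∈ Inn G := by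
    intro φ
    obtain ⟨w, k, hk, hk0, u, hu, hφx, hφs, hφt⟩ := hnorm φ
    have huE := hUlt u hu
    have hkE := hXlt _ (hxpmem k hk)
    have hc : candOK M.T M.bs c k u = true := by
      have := hcand k hk
      rw [Bool.or_eq_true, Nat.beq_eq, List.all_eq_true] at this
      rcases this with h0 | hkc
      · exact absurd h0 hk0
      · exact hkc u hu
    simp only [candOK, Bool.or_eq_true, List.any_eq_true, Bool.and_eq_true,
      Bool.not_eq_true'] at hc
    have hdense : ∀ ψ : MulAut G, ψ x = φ x → ψ s = φ s → ψ t = φ t → ψ = φ := by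
      intro ψ a1 a2 a3
      have heq : ψ.toMonoidHom = φ.toMonoidHom := by
        refine MonoidHom.eq_of_eqOn_dense hgen ?_
        rintro y (rfl | rfl | rfl)
        · exact a1
        · exact a2
        · exact a3
      exact MulEquiv.ext fun y => DFunLike.congr_fun heq y
    rcases hc with ⟨r, hr, hbad⟩ | ⟨g, hg, hcase⟩
    · exfalso
      obtain ⟨hr3, hrel⟩ := hrels r hr
      have hsubE : ∀ a b d : List ℕ, (∀ i ∈ a, i < M.E) → (∀ i ∈ b, i < M.E) → (∀ i ∈ d, i < M.E) →
          ∀ i ∈ subst a b d r, i < M.E := by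
        intro a b d ha hb hd i hi
        rw [subst, List.mem_flatMap] at hi
        obtain ⟨j, hj, hi⟩ := hi
        have := hr3 j hj
        match j, this with
        | 0, _ => exact ha i hi
        | 1, _ => exact hb i hi
        | 2, _ => exact hd i hi
      have e1 := M.eq_of_eqW (hsubE _ _ _ (by simpa using hx) (by simpa using hs) (by simpa using ht))
        (by simp) hrel
      rw [subst_val M [c.x] [c.s] [c.t] x s t (by simp [Model.val, hxdef]) (by simp [Model.val, hsdef])
        (by simp [Model.val, htdef]) r hr3] at e1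
      have e2 : M.val (subst [c.xp k] [c.s] [c.t, u] r) = 1 := by
        rw [subst_val M [c.xp k] [c.s] [c.t, u] (x ^ k) s (t * M.el u) (by simp [Model.val, hxp k hk])
          (by simp [Model.val, hsdef]) (by simp [Model.val, htdef]) r hr3]
        have e3 : ∀ l : List ℕ, (∀ j ∈ l, j < 3) →
            φ ((l.map fun i => [x, s, t].getD i 1).prod) =
              w * (l.map fun i => [x ^ k, s, t * M.el u].getD i 1).prod * w⁻¹ := by
          intro l
          induction l with
          | nil => simp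
          | cons j l ih =>
            intro hl
            rw [List.map_cons, List.prod_cons, map_mul, ih fun i hi => hl i (List.mem_cons_of_mem _ hi),
              List.map_cons, List.prod_cons]
            match j, hl j List.mem_cons_self with
            | 0, _ => simp only [List.getD_cons_zero]; rw [hφx]; group
            | 1, _ => simp only [List.getD_cons_succ, List.getD_cons_zero]; rw [hφs]; group
            | 2, _ => simp only [List.getD_cons_succ, List.getD_cons_zero]; rw [hφt]; group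
        have e4 := e3 r hr3
        rw [e1, Model.val, List.map_nil, List.prod_nil, map_one] at e4
        exact conj_eq_one_iff.1 e4.symm
      have : eqW M.T M.bs (subst [c.xp k] [c.s] [c.t, u] r) [] = true :=
        (M.eqW_iff (hsubE _ _ _ (by simpa using hkE) (by simpa using hs)
          (by simpa using ⟨ht, huE⟩)) (by simp)).2 (by rw [e2]; rfl)
      rw [this] at hbad
      exact Bool.noConfusion hbad
    · have hgE := hUlt g hg
      rcases hcase with ⟨hgx, hgt⟩ | ⟨hgx, hgt⟩
      · left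
        have a1 := M.eq_of_eqW (by simpa using ⟨hgE, hx⟩) (by simpa using ⟨hkE, hgE⟩) hgx
        have a2 := M.eq_of_eqW (by simpa using ⟨hgE, ht⟩) (by simpa using ⟨ht, huE, hgE⟩) hgt
        simp only [Model.val, List.map_cons, List.map_nil, List.prod_cons, List.prod_nil, mul_one] at a1 a2
        rw [hxp k hk] at a1
        refine ⟨w * M.el g, hdense _ ?_ ?_ ?_⟩
        · rw [MulAut.conj_apply, hφx]
          calc w * M.el g * x * (w * M.el g)⁻¹ = w * (M.el g * x) * (M.el g)⁻¹ * w⁻¹ := by group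
            _ = _ := by rw [a1]; group
        · rw [MulAut.conj_apply, hφs]
          calc w * M.el g * s * (w * M.el g)⁻¹ = w * (M.el g * s) * (M.el g)⁻¹ * w⁻¹ := by group
            _ = _ := by rw [(hgcomm g hg)]; group
        · rw [MulAut.conj_apply, hφt]
          calc w * M.el g * t * (w * M.el g)⁻¹ = w * (M.el g * t) * (M.el g)⁻¹ * w⁻¹ := by group
            _ = _ := by rw [a2, ← htdef]; group
      · right
        have a1 := M.eq_of_eqW (by simpa using ⟨hgE, hxi⟩) (by simpa using ⟨hkE, hgE⟩) hgx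
        have a2 := M.eq_of_eqW (by simpa using ⟨hgE, hti⟩) (by simpa using ⟨ht, huE, hgE⟩) hgt
        simp only [Model.val, List.map_cons, List.map_nil, List.prod_cons, List.prod_nil, mul_one] at a1 a2
        rw [hxp k hk] at a1
        have heq : MulAut.conj (w * M.el g) * e = φ := by
          refine hdense _ ?_ ?_ ?_
          · rw [MulAut.mul_apply, MulAut.conj_apply, hex, hφx]
            calc w * M.el g * M.el c.ex * (w * M.el g)⁻¹
                = w * (M.el g * M.el c.ex) * (M.el g)⁻¹ * w⁻¹ := by group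
              _ = _ := by rw [a1]; group
          · rw [MulAut.mul_apply, MulAut.conj_apply, hes', hφs]
            calc w * M.el g * s * (w * M.el g)⁻¹ = w * (M.el g * s) * (M.el g)⁻¹ * w⁻¹ := by group
              _ = _ := by rw [(hgcomm g hg)]; group
          · rw [MulAut.mul_apply, MulAut.conj_apply, het, hφt]
            calc w * M.el g * M.el c.et * (w * M.el g)⁻¹
                = w * (M.el g * M.el c.et) * (M.el g)⁻¹ * w⁻¹ := by group
              _ = _ := by rw [a2, ← htdef]; group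
        exact ⟨w * M.el g, by rw [← heq, mul_inv_cancel_right]⟩
  have hne' : (QuotientGroup.mk e : Out G) ≠ 1 := fun h => hne ((QuotientGroup.eq_one_iff _).mp h)
  rw [Nat.card_eq_two_iff]
  refine ⟨QuotientGroup.mk e, 1, hne', Set.eq_univ_of_forall fun a => ?_⟩
  obtain ⟨φ, rfl⟩ := QuotientGroup.mk_surjective a
  rcases hall φ with h | h
  · exact Or.inr ((QuotientGroup.eq_one_iff _).mpr h)
  · left
    have h1 : (QuotientGroup.mk (φ * e⁻¹) : Out G) = 1 := (QuotientGroup.eq_one_iff _).mpr h
    exact mul_inv_eq_one.mp h1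

end Cfsg.Agent.Lib.CosetEnum
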