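import Cfsg.Agent.Lib.CosetEnum.Sound

/-!
From a checked certificate: exact index, identification of the subgroup with a point stabiliser.
-/

set_option autoImplicit false

namespace Cfsg.Agent.Lib.CosetEnum

variable {G : Type*} [Group G] {d : Data} {D : ℕ} {φ : ℕ → G} {H : Subgroup G} {M N : ℕ} {T V E : PTree}

theorem steps_sound (hV : Valid d φ H) (n : ℕ) : ∀ k S, steps d n k S = true →
    (∀ i < k, Good d D φ H i) → ∀ i < k + n, Good d D φ H i := by
  induction n with
  | zero => intro k S _ hg i hi; exact hg i hi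
  | succ n ih =>
    intro k S h hg i hi
    change step d k S (fun S' => force (Nat.add k 1) fun k' => steps d n k' S') = true at h
    obtain ⟨hk, S', h'⟩ := step_sound hV hg h
    rw [force_eq] at h'
    refine ih (k + 1) S' h' (fun j hj => ?_) i (by omega)
    rcases Nat.lt_succ_iff_lt_or_eq.1 hj with hj | rfl
    · exact hg j hj
    · exact hk

theorem chunksLen_cons (c : ℕ × ℕ) (l : List (ℕ × ℕ)) : chunksLen (c :: l) = c.1 + chunksLen l := rfl

/-- Extend the set of good facts by a checked list of chunks. -/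
theorem chunks_sound (hV : Valid d φ H) (l : List (ℕ × ℕ)) : ∀ {k k' : ℕ}, chunks d l k = true →
    k' = k + chunksLen l → (∀ i < k, Good d D φ H i) → ∀ i < k', Good d D φ H i := by
  induction l with
  | nil =>
    intro k k' _ hk hg i hi
    have : k' = k := hk
    exact hg i (by omega)
  | cons c l ih =>
    intro k k' h hk hg
    change (steps d c.1 k c.2 && force (Nat.add k c.1) fun q => chunks d l q) = true at h
    simp only [force_eq, Bool.and_eq_true] at h
    refine ih h.2 ?_ (steps_sound hV c.1 k c.2 h.1 hg)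
    rw [hk, chunksLen_cons, Nat.add_eq, Nat.add_assoc]

theorem rep_covers (hval : Valid d φ H) (hD : edgesOK d M N T V E = true) (hM : ∀ i < M, Good d D φ H i)
    (hN : 0 < N) (hV0 : get32 V 0 = 0)
    (hinv : ∀ g < d.K, ∃ g' < d.K, φ g' = (φ g)⁻¹) (x : G)
    (hx : x ∈ Subgroup.closure {x | ∃ g < d.K, φ g = x}) :
    ∃ i < N, x * (rep d D φ (get32 V i))⁻¹ ∈ H := by
  have hstep : ∀ (y : G) (g : ℕ), g < d.K → (∃ i < N, y * (rep d D φ (get32 V i))⁻¹ ∈ H) →
      ∃ i < N, y * φ g * (rep d D φ (get32 V i))⁻¹ ∈ H := by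
    rintro y g hg ⟨i, hi, hy⟩
    have h := allBelow_iff.1 hD i hi
    simp only [edgeAt, force_eq] at h
    have h' := allBelow_iff.1 h g hg
    simp only [force_eq, Bool.and_eq_true, Nat.blt_eq] at h'
    obtain ⟨⟨hid, ht⟩, h''⟩ := h'
    refine ⟨_, ht, ?_⟩
    obtain ⟨hgK, hf⟩ := hM _ hid
    cases hr : Nat.beq (Nat.mod (get32 E (Nat.add (Nat.mul i d.K) g)) 2) 0
    all_goals (rw [hr] at h''; simp only [Bool.and_eq_true, Nat.beq_eq] at h'';
               obtain ⟨⟨hu, hgg⟩, hv⟩ := h'')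
    · have hφ := (hval.inv _ hgK).2
      rw [hgg] at hφ
      rw [hφ]
      rw [hv, hu] at hf
      have := H.mul_mem hy (H.inv_mem hf)
      convert this using 1
      group
    rw [hu, hgg, hv] at hf
    have := H.mul_mem hy hf
    convert this using 1
    group
  suffices ∀ y : G, (∃ i < N, y * (rep d D φ (get32 V i))⁻¹ ∈ H) →
      ∃ i < N, y * x * (rep d D φ (get32 V i))⁻¹ ∈ H by
    have h := this 1 ⟨0, hN, by rw [hV0, rep_zero]; simp [H.one_mem]⟩
    simpa using h
  induction hx using Subgroup.closure_induction_left with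
  | one => intro y hy; simpa using hy
  | mul_left a ha b _ ih =>
    intro y hy
    obtain ⟨g, hg, rfl⟩ := ha
    rw [← mul_assoc]
    exact ih _ (hstep y g hg hy)
  | inv_mul_cancel a ha b _ ih =>
    intro y hy
    obtain ⟨g, hg, rfl⟩ := ha
    obtain ⟨g', hg', he⟩ := hinv g hg
    rw [← mul_assoc, ← he]
    exact ih _ (hstep y g' hg' hy)

theorem index_le_of_covers {N : ℕ} (r : Fin N → G) (h : ∀ x : G, ∃ i, x * (r i)⁻¹ ∈ H) :
    H.index ≠ 0 ∧ H.index ≤ N := by
  have hs : Function.Surjective (fun i : Fin N => (((r i)⁻¹ : G) : G ⧸ H)) := by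
    intro q
    induction q using QuotientGroup.induction_on with
    | H z =>
      obtain ⟨i, hi⟩ := h z⁻¹
      refine ⟨i, ?_⟩
      rw [QuotientGroup.eq, inv_inv]
      have := H.inv_mem hi
      simpa [mul_inv_rev] using this
  haveI := Finite.of_surjective _ hs
  constructor
  · rw [Subgroup.index_ne_zero_iff_finite]; infer_instance
  · simpa [Subgroup.index] using Nat.card_le_card_of_surjective _ hs

/-- A subgroup inside a point stabiliser of index at most the orbit length is the stabiliser. -/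
theorem eq_stabilizer {X : Type*} [Finite X] (ρ : G →* Equiv.Perm X) (x₀ : X)
    (hle : ∀ h ∈ H, ρ h x₀ = x₀) (htr : ∀ x, ∃ g, ρ g x₀ = x) (hidx : H.index ≤ Nat.card X)
    (hne : H.index ≠ 0) :
    H.index = Nat.card X ∧ ∀ g, g ∈ H ↔ ρ g x₀ = x₀ := by
  let S : Subgroup G := (MulAction.stabilizer (Equiv.Perm X) x₀).comap ρ
  have hS : ∀ g, g ∈ S ↔ ρ g x₀ = x₀ := fun g => Iff.rfl
  have hHS : H ≤ S := fun h hh => (hS h).2 (hle h hh)
  have hSi : S.index = Nat.card X := by
    letI : MulAction G X := MulAction.compHom X ρ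
    have : MulAction.IsPretransitive G X := ⟨fun a b => by
      obtain ⟨g, rfl⟩ := htr a
      obtain ⟨g', rfl⟩ := htr b
      exact ⟨g' * g⁻¹, by
        change ρ (g' * g⁻¹) (ρ g x₀) = ρ g' x₀
        rw [map_mul, map_inv]; simp⟩⟩
    have hst : MulAction.stabilizer G x₀ = S := rfl
    rw [← hst, MulAction.index_stabilizer_of_transitive]
  have hrel := Subgroup.relIndex_mul_index hHS
  have hX : 0 < Nat.card X := by
    haveI : Nonempty X := ⟨x₀⟩
    exact Nat.card_pos
  rw [hSi] at hrel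
  have hr1 : H.relIndex S = 1 := by
    rcases Nat.eq_zero_or_pos (H.relIndex S) with h0 | h0
    · rw [h0, zero_mul] at hrel; exact absurd hrel.symm hne
    · nlinarith
  have hSH : S ≤ H := Subgroup.relIndex_eq_one.1 hr1
  refine ⟨by rw [← hrel, hr1, one_mul], fun g => ⟨hle g, fun h => hSH ((hS g).2 h)⟩⟩

/-- The cosets of a point stabiliser are the points, equivariantly. -/
noncomputable def cosetEquiv {X : Type*} (ρ : G →* Equiv.Perm X) (x₀ : X)
    (hst : ∀ g, g ∈ H ↔ ρ g x₀ = x₀) (htr : ∀ x, ∃ g, ρ g x₀ = x) : G ⧸ H ≃ X :=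
  Equiv.ofBijective
    (fun q => Quotient.liftOn' q (fun g => ρ g x₀) fun a b hab => by
      have := (hst _).1 (QuotientGroup.leftRel_apply.1 hab)
      conv_rhs => rw [show b = a * (a⁻¹ * b) by group, map_mul, Equiv.Perm.mul_apply, this])
    ⟨by
      intro p q
      induction p using QuotientGroup.induction_on with
      | H a =>
        induction q using QuotientGroup.induction_on with
        | H b =>
          intro h
          change ρ a x₀ = ρ b x₀ at h
          rw [QuotientGroup.eq, hst, map_mul, map_inv, Equiv.Perm.mul_apply, ← h]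
          simp,
    fun x => by obtain ⟨g, hg⟩ := htr x; exact ⟨(g : G ⧸ H), hg⟩⟩

theorem cosetEquiv_smul {X : Type*} (ρ : G →* Equiv.Perm X) (x₀ : X)
    (hst : ∀ g, g ∈ H ↔ ρ g x₀ = x₀) (htr : ∀ x, ∃ g, ρ g x₀ = x) (g : G) (q : G ⧸ H) :
    cosetEquiv ρ x₀ hst htr (g • q) = ρ g (cosetEquiv ρ x₀ hst htr q) := by
  induction q using QuotientGroup.induction_on with
  | H a =>
    change ρ (g * a) x₀ = ρ g (ρ a x₀)
    rw [map_mul]; rfl

theorem ncard_orbit_coset {X : Type*} (ρ : G →* Equiv.Perm X) (x₀ : X)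
    (hst : ∀ g, g ∈ H ↔ ρ g x₀ = x₀) (htr : ∀ x, ∃ g, ρ g x₀ = x) (L : Subgroup G) (x : X) :
    (MulAction.orbit L ((cosetEquiv ρ x₀ hst htr).symm x)).ncard =
      {y | ∃ h ∈ L, ρ h x = y}.ncard := by
  set e := cosetEquiv ρ x₀ hst htr with he
  have : e '' MulAction.orbit L (e.symm x) = {y | ∃ h ∈ L, ρ h x = y} := by
    ext y
    constructor
    · rintro ⟨q, ⟨h, rfl⟩, rfl⟩
      refine ⟨h, h.2, ?_⟩
      change ρ (h : G) x = e ((h : G) • e.symm x)
      rw [he, cosetEquiv_smul, ← he, Equiv.apply_symm_apply]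
    · rintro ⟨h, hh, rfl⟩
      refine ⟨(h : G) • e.symm x, ⟨⟨h, hh⟩, rfl⟩, ?_⟩
      rw [he, cosetEquiv_smul, ← he, Equiv.apply_symm_apply]
  rw [← this, Set.ncard_image_of_injective _ e.injective]

end Cfsg.Agent.Lib.CosetEnum
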