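import Cfsg.Agent.Lib.CosetEnum.Main
import Cfsg.Agent.Lib.CosetEnum.Slp

/-!
Restriction of a table action to an orbit of a subgroup generated by letters, and actions of
presented groups given by tables.
-/

set_option autoImplicit false

namespace Cfsg.Agent.Lib.CosetEnum

variable {α : Type} [DecidableEq α]

/-- The action given by a table on which all relators act trivially. -/
theorem exists_tableHom (L : Letters α) (S : Set (FreeGroup α)) (hS : SameRels L S) (hok : L.OK)
    {N : ℕ} {T : PTree} (hT : TableOK L N T) :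
    ∃ ρ : PresentedGroup S →* Equiv.Perm (Fin N),
      ∀ g < L.K, ∀ i : Fin N, ((ρ (L.phi S g))⁻¹ i).1 = get32 T (i.1 * L.K + g) := by
  refine ⟨PresentedGroup.toGroup (f := hT.genPerm) (hS.2 _ fun r hr => hT.lift_rel hok hr),
    fun g hg i => ?_⟩
  rw [Letters.phi_of_lt hg]
  change ((FreeGroup.lift hT.genPerm (FreeGroup.mk [L.sym g]))⁻¹ i).1 = _
  rw [hT.lift_sym hg]
  rfl

/-- Row `m` of the restricted table `T'` agrees with the table `T` under `Q`. -/
noncomputable def restrictAt (K N n : ℕ) (T : PTree) (emb : List ℕ) (Q pos T' : PTree) (m : ℕ) :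
    Bool :=
  force (get32 Q m) fun q =>
  Nat.blt q N && Nat.beq (get32 pos q) m &&
    allBelow emb.length fun g =>
      force (get32 T' (Nat.add (Nat.mul m emb.length) g)) fun m' =>
        Nat.blt m' n && Nat.beq (get32 Q m') (get32 T (Nat.add (Nat.mul q K) (emb.getD g 0)))

/-- The action of a letter subgroup on one of its orbits. -/
theorem exists_restrict {L : Letters α} {S : Set (FreeGroup α)} {N n : ℕ} {T : PTree}
    (ρ : PresentedGroup S →* Equiv.Perm (Fin N))
    (hρ : ∀ g < L.K, ∀ i : Fin N, ((ρ (L.phi S g))⁻¹ i).1 = get32 T (i.1 * L.K + g))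
    (emb : List ℕ) (hemb : ∀ g ∈ emb, g < L.K) (Q pos T' : PTree)
    (h : allBelow n (restrictAt L.K N n T emb Q pos T') = true) :
    ∃ ρ' : subOf L S (emb.map fun g => [g]) →* Equiv.Perm (Fin n),
      (∀ g, ∀ hg : g < emb.length, ∀ m : Fin n,
        ((ρ' ⟨L.phi S (emb.getD g 0), Subgroup.subset_closure ⟨[emb.getD g 0],
          List.mem_map.2 ⟨_, by rw [List.getD_eq_getElem _ _ hg]; exact List.getElem_mem hg, rfl⟩,
          by simp⟩⟩)⁻¹ m).1 = get32 T' (m.1 * emb.length + g)) ∧
      ∀ x : subOf L S (emb.map fun g => [g]), ρ' x = 1 ↔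
        ∀ i : Fin N, i.1 = get32 Q (get32 pos i.1) ∧ get32 pos i.1 < n → ρ x.1 i = i := by
  classical
  have hj := allBelow_iff.1 h
  simp only [restrictAt, force_eq, Bool.and_eq_true, Nat.blt_eq, Nat.beq_eq, allBelow_iff,
    Nat.add_eq, Nat.mul_eq] at hj
  let f : Fin n → Fin N := fun m => ⟨get32 Q m.1, (hj m.1 m.2).1.1⟩
  have hinj : Function.Injective f := by
    intro a b hab
    have : get32 Q a.1 = get32 Q b.1 := congrArg Fin.val hab
    apply Fin.ext
    rw [← (hj a.1 a.2).1.2, this, (hj b.1 b.2).1.2]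
  have hgen : ∀ g, g < emb.length → ∀ m : Fin n,
      ∃ hm : get32 T' (m.1 * emb.length + g) < n,
        (ρ (L.phi S (emb.getD g 0)))⁻¹ (f m) = f ⟨_, hm⟩ := by
    intro g hg m
    obtain ⟨hm, he⟩ := (hj m.1 m.2).2 g hg
    refine ⟨hm, Fin.ext ?_⟩
    rw [hρ _ (by rw [List.getD_eq_getElem _ _ hg]; exact hemb _ (List.getElem_mem hg))]
    exact he.symm
  let P : Subgroup (Equiv.Perm (Fin N)) :=
    { carrier := {σ | ∀ i, σ i ∈ Set.range f ↔ i ∈ Set.range f}
      mul_mem' := fun {a b} ha hb i => by rw [Equiv.Perm.mul_apply, ha, hb]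
      one_mem' := fun i => Iff.rfl
      inv_mem' := fun {a} ha i => by rw [← ha]; simp }
  have hJ : ∀ x ∈ subOf L S (emb.map fun g => [g]), ρ x ∈ P := by
    intro x hx
    induction hx using Subgroup.closure_induction with
    | mem x hx =>
      obtain ⟨l, hl, rfl⟩ := hx
      obtain ⟨e, he, rfl⟩ := List.mem_map.1 hl
      obtain ⟨g, hg, rfl⟩ := List.mem_iff_getElem.1 he
      rw [show emb[g] = emb.getD g 0 from (List.getD_eq_getElem _ _ hg).symm]
      simp only [List.map_cons, List.map_nil, List.prod_cons, List.prod_nil, mul_one]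
      set σ := (ρ (L.phi S (emb.getD g 0)))⁻¹ with hσ
      have hsub : σ '' Set.range f ⊆ Set.range f := by
        rintro _ ⟨_, ⟨m, rfl⟩, rfl⟩
        obtain ⟨hm, he⟩ := hgen g hg m
        exact ⟨_, he.symm⟩
      have himg : σ '' Set.range f = Set.range f :=
        Set.eq_of_subset_of_ncard_le hsub
          (by rw [Set.ncard_image_of_injective _ σ.injective]) (Set.toFinite _)
      have hσP : σ ∈ P := fun i => by
        constructor
        · intro hi
          rw [← himg] at hi
          obtain ⟨j, hj', hje⟩ := hi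
          rwa [σ.injective hje] at hj'
        · intro hi; exact hsub ⟨i, hi, rfl⟩
      have := P.inv_mem hσP
      rwa [hσ, inv_inv] at this
    | one => rw [map_one]; exact P.one_mem
    | mul a b _ _ ha hb => rw [map_mul]; exact P.mul_mem ha hb
    | inv a _ ha => rw [map_inv]; exact P.inv_mem ha
  let e : Fin n ≃ Set.range f := Equiv.ofInjective f hinj
  let π : P →* Equiv.Perm (Fin n) :=
    { toFun := fun σ => e.symm.permCongr (σ.1.subtypePerm σ.2)
      map_one' := by ext m; simp
      map_mul' := fun a b => by ext m; simp [Equiv.permCongr_apply] }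
  let ρ' := π.comp ((ρ.comp (subOf L S (emb.map fun g => [g])).subtype).codRestrict P fun x => hJ x.1 x.2)
  have hval : ∀ (x : subOf L S (emb.map fun g => [g])) (m : Fin n), f (ρ' x m) = ρ x.1 (f m) := by
    intro x m
    change f (e.symm ⟨ρ x.1 (f m), _⟩) = _
    exact congrArg Subtype.val (e.apply_symm_apply _)
  refine ⟨ρ', fun g hg m => ?_, fun x => ?_⟩
  · obtain ⟨hm, he⟩ := hgen g hg m
    suffices h' : (ρ' ⟨L.phi S (emb.getD g 0), _⟩)⁻¹ m = ⟨_, hm⟩ from congrArg Fin.val h'
    rw [Equiv.Perm.inv_def, Equiv.symm_apply_eq]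
    apply hinj
    rw [hval, ← he]
    simp
  · constructor
    · rintro hx i ⟨hi, hi'⟩
      have : i = f ⟨_, hi'⟩ := Fin.ext hi
      rw [this, ← hval, hx]
      rfl
    · intro hx
      apply Equiv.ext
      intro m
      apply hinj
      rw [hval]
      refine hx _ ?_
      change get32 Q m.1 = get32 Q (get32 pos (get32 Q m.1)) ∧ get32 pos (get32 Q m.1) < n
      rw [(hj m.1 m.2).1.2]
      exact ⟨rfl, m.2⟩

/-- The image of a transitive action is at least `N` times the image of a point-fixing subgroup. -/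
theorem card_range_ge_mul {G : Type*} [Group G] {N : ℕ} (ρ : G →* Equiv.Perm (Fin N)) (x₀ : Fin N)
    (htr : ∀ x, ∃ g, ρ g x₀ = x) (J : Subgroup G) (hJ : ∀ x ∈ J, ρ x x₀ = x₀) :
    N * Nat.card (J.map ρ) ≤ Nat.card ρ.range := by
  have horb : MulAction.orbit ρ.range x₀ = Set.univ := by
    rw [Set.eq_univ_iff_forall]
    intro x
    obtain ⟨g, hg⟩ := htr x
    exact ⟨⟨ρ g, g, rfl⟩, hg⟩
  have hq : Nat.card (MulAction.orbit ρ.range x₀) * Nat.card (MulAction.stabilizer ρ.range x₀) =
      Nat.card ρ.range := by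
    rw [Nat.card_congr (MulAction.orbitEquivQuotientStabilizer ρ.range x₀), ← Subgroup.index]
    exact Subgroup.index_mul_card _
  rw [horb, Nat.card_coe_set_eq, Set.ncard_univ, Nat.card_fin] at hq
  rw [← hq]
  refine Nat.mul_le_mul_left _ (Nat.card_le_card_of_injective
    (fun σ => ⟨⟨σ.1, ?_⟩, ?_⟩) fun a b hab => ?_)
  · obtain ⟨x, -, hx⟩ := σ.2; exact ⟨x, hx⟩
  · obtain ⟨x, hxJ, hx⟩ := σ.2
    change σ.1 x₀ = x₀
    rw [← hx]; exact hJ x hxJ
  · exact Subtype.ext (congrArg (fun z => (z.1 : Equiv.Perm (Fin N))) hab)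

/-- An element killed by the restriction but not by the action doubles the image. -/
theorem card_map_ge_double {G : Type*} [Group G] {N n : ℕ} (J : Subgroup G)
    (ρ : G →* Equiv.Perm (Fin N)) (ρ' : J →* Equiv.Perm (Fin n))
    (hker : ∀ x : J, ρ x.1 = 1 → ρ' x = 1) (z : J) (hz' : ρ' z = 1) (hz : ρ z.1 ≠ 1) :
    2 * Nat.card ρ'.range ≤ Nat.card (J.map ρ) := by
  classical
  let ψ : J →* Equiv.Perm (Fin N) × Equiv.Perm (Fin n) := (ρ.comp J.subtype).prod ρ'
  have hfst : Function.Injective (fun p : ψ.range => p.1.1) := by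
    rintro ⟨_, a, rfl⟩ ⟨_, b, rfl⟩ hab
    change ρ a.1 = ρ b.1 at hab
    have h1 : ρ' (a * b⁻¹) = 1 := hker _ (by simp [hab])
    rw [map_mul, map_inv, mul_inv_eq_one] at h1
    exact Subtype.ext (Prod.ext hab h1)
  have hcard : Nat.card ψ.range ≤ Nat.card (J.map ρ) :=
    Nat.card_le_card_of_injective (fun p => (⟨p.1.1, by
      obtain ⟨a, ha⟩ := p.2
      exact ⟨a.1, a.2, congrArg Prod.fst ha⟩⟩ : J.map ρ))
      fun p q hpq => hfst (congrArg (fun u => u.1) hpq)
  choose sec hsec using fun σ : ρ'.range => σ.2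
  refine le_trans ?_ hcard
  have hinj : Function.Injective (fun p : Bool × ρ'.range =>
      (⟨ψ (cond p.1 z 1 * sec p.2), ⟨_, rfl⟩⟩ : ψ.range)) := by
    rintro ⟨b1, s1⟩ ⟨b2, s2⟩ hab
    have h2 := congrArg (fun u : ψ.range => u.1.2) hab
    have h1 := congrArg (fun u : ψ.range => u.1.1) hab
    change ρ' (cond b1 z 1 * sec s1) = ρ' (cond b2 z 1 * sec s2) at h2
    change ρ (cond b1 z 1 * sec s1).1 = ρ (cond b2 z 1 * sec s2).1 at h1
    have hc : ∀ b : Bool, ρ' (cond b z 1) = 1 := by intro b; cases b <;> simp [hz']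
    rw [map_mul, map_mul, hc, hc, one_mul, one_mul, hsec, hsec] at h2
    have hs : s1 = s2 := Subtype.ext h2
    subst hs
    simp only [Subgroup.coe_mul, map_mul, mul_left_inj] at h1
    cases b1 <;> cases b2 <;> simp_all
  have := Nat.card_le_card_of_injective _ hinj
  simpa [Nat.card_prod] using this

end Cfsg.Agent.Lib.CosetEnum
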