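import Cfsg.Agent.Lib.CosetEnum.Pres

/-!
The main certificate theorem: exact index of a subgroup of a presented group, with the coset action.
-/

set_option autoImplicit false

namespace Cfsg.Agent.Lib.CosetEnum

variable {α : Type} [DecidableEq α]

/-- `S` and the list `L.rels` have the same consequences. -/
def SameRels (L : Letters α) (S : Set (FreeGroup α)) : Prop :=
  (∀ r ∈ L.rels, r ∈ S) ∧ ∀ {N : ℕ} (ψ : FreeGroup α →* Equiv.Perm (Fin N)),
    (∀ r ∈ L.rels, ψ r = 1) → ∀ r ∈ S, ψ r = 1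

open Cfsg.Spor in
theorem sameRels_cox (L : Letters α) (nodes : List α) (edges : List (α × ℕ × α))
    (extra : List (FreeGroup α)) (hL : L.rels = relList nodes edges extra)
    (hnodes : (∀ x ∈ coxNodes edges, x ∈ nodes) ∧ ∀ x ∈ nodes, x ∈ coxNodes edges) :
    SameRels L (coxRelators edges ∪ {r | r ∈ extra}) := by
  refine ⟨?_, fun ψ h => lift_rels_of_list hnodes.1 ψ (hL ▸ h)⟩
  intro r hr
  rw [hL, relList, List.mem_append] at hr
  rcases hr with hr | hr
  · obtain ⟨⟨x, y⟩, hm, rfl⟩ := List.mem_map.1 hr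
    have hxy : ∀ {l : List α}, (x, y) ∈ pairsLE l → x ∈ l ∧ y ∈ l := by
      intro l
      induction l with
      | nil => intro h; simp [pairsLE] at h
      | cons a l ih =>
        intro h
        rw [pairsLE, List.mem_append] at h
        rcases h with h | h
        · obtain ⟨b, hb, he⟩ := List.mem_map.1 h
          simp only [Prod.mk.injEq] at he
          exact ⟨he.1 ▸ List.mem_cons_self, he.2 ▸ hb⟩
        · exact ⟨List.mem_cons_of_mem _ (ih h).1, List.mem_cons_of_mem _ (ih h).2⟩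
    exact Or.inl ⟨x, hnodes.2 x (hxy hm).1, y, hnodes.2 y (hxy hm).2, rfl⟩
  · exact Or.inr hr

/-- The subgroup generated by some letter words. -/
def subOf (L : Letters α) (S : Set (FreeGroup α)) (HL : List (List ℕ)) :
    Subgroup (PresentedGroup S) :=
  Subgroup.closure {x | ∃ l ∈ HL, (l.map (L.phi S)).prod = x}

theorem map_closure_eq_subOf (L : Letters α) (S : Set (FreeGroup α)) (HL : List (List ℕ))
    (hHL : ∀ l ∈ HL, ∀ g ∈ l, g < L.K) (hs : List (FreeGroup α)) (hw : HL.map L.word = hs)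
    (X : Set (FreeGroup α)) (hX : X = {r | r ∈ hs}) :
    (Subgroup.closure X).map (PresentedGroup.mk S) = subOf L S HL := by
  rw [MonoidHom.map_closure, subOf, hX, ← hw]
  congr 1
  ext x
  constructor
  · rintro ⟨r, hr, rfl⟩
    obtain ⟨l, hl, rfl⟩ := List.mem_map.1 hr
    exact ⟨l, hl, Letters.prod_phi l (hHL l hl)⟩
  · rintro ⟨l, hl, rfl⟩
    exact ⟨L.word l, List.mem_map.2 ⟨l, hl, rfl⟩, (Letters.prod_phi l (hHL l hl)).symm⟩

/-- What an enumeration certificate proves. -/
structure Enumerated (L : Letters α) (S : Set (FreeGroup α)) (H : Subgroup (PresentedGroup S))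
    (N : ℕ) (T : PTree) : Prop where
  pos : 0 < N
  index : H.index = N
  action : ∃ ρ : PresentedGroup S →* Equiv.Perm (Fin N),
    (∀ g < L.K, ∀ i : Fin N, ((ρ (L.phi S g))⁻¹ i).1 = get32 T (i.1 * L.K + g)) ∧
    (∀ x, x ∈ H ↔ ρ x ⟨0, pos⟩ = ⟨0, pos⟩) ∧ ∀ i, ∃ x, ρ x ⟨0, pos⟩ = i

theorem enumerated (L : Letters α) (S : Set (FreeGroup α)) (hS : SameRels L S) (hok : L.OK)
    (N : ℕ) (T P : PTree) (hN : 0 < N) (hT : TableOK L N T) (hP : reachOK L.K N T P = true)
    (d : Data) (D M : ℕ) (hdK : d.K = L.K) (HL : List (List ℕ))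
    (hHL : ∀ l ∈ HL, (∀ g ∈ l, g < L.K) ∧ scan L.K T l 0 = 0)
    (hvalid : ∀ φ, φ = L.phi S → Valid d φ (subOf L S HL))
    (hgood : ∀ φ : ℕ → PresentedGroup S, Valid d φ (subOf L S HL) →
      ∀ i < M, Good d D φ (subOf L S HL) i)
    (V E : PTree) (hV0 : get32 V 0 = 0) (hE : edgesOK d M N T V E = true) :
    Enumerated L S (subOf L S HL) N T := by
  classical
  let ρ : PresentedGroup S →* Equiv.Perm (Fin N) :=
    PresentedGroup.toGroup (f := hT.genPerm) (hS.2 _ fun r hr => hT.lift_rel hok hr)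
  have hmk : ∀ w, ρ (PresentedGroup.mk S w) = FreeGroup.lift hT.genPerm w := fun w => rfl
  have hρ : ∀ g < L.K, ∀ i : Fin N,
      ((ρ (L.phi S g))⁻¹ i).1 = get32 T (i.1 * L.K + g) := by
    intro g hg i
    rw [Letters.phi_of_lt hg, hmk, hT.lift_sym hg]
    rfl
  have hle : ∀ x ∈ subOf L S HL, ρ x ⟨0, hN⟩ = ⟨0, hN⟩ := by
    intro x hx
    induction hx using Subgroup.closure_induction with
    | mem x hx =>
      obtain ⟨l, hl, rfl⟩ := hx
      rw [Letters.prod_phi l (hHL l hl).1, hmk]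
      have h0 : (FreeGroup.lift hT.genPerm (L.word l))⁻¹ (⟨0, hN⟩ : Fin N) = ⟨0, hN⟩ := by
        apply Fin.ext
        rw [hT.scan_lift l (hHL l hl).1]
        exact (hHL l hl).2
      nth_rw 1 [← h0]
      simp
    | one => simp
    | mul a b _ _ ha hb => rw [map_mul, Equiv.Perm.mul_apply, hb, ha]
    | inv a _ ha =>
      rw [map_inv, Equiv.Perm.inv_def, Equiv.symm_apply_eq, ha]
  have htr := transitive_of_reach ρ L.K (L.phi S) hN hρ hP
  have hV := hvalid _ rfl
  have hcov := fun x => rep_covers (D := D) hV hE (hgood _ hV) hN hV0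
    (fun g hg => by
      rw [hdK] at hg ⊢
      exact ⟨_, (hok.2.2.1 g hg).1, (Letters.phi_inv hS.1 hok hg.le).2⟩) x
    (by rw [hdK, Letters.gen_closure hT.col]; trivial)
  have hidx := index_le_of_covers (fun i : Fin N => rep d D (L.phi S) (get32 V i.1)) fun x => by
    obtain ⟨i, hi, hx⟩ := hcov x
    exact ⟨⟨i, hi⟩, hx⟩
  obtain ⟨h1, h2⟩ := eq_stabilizer ρ (⟨0, hN⟩ : Fin N) hle htr (by simpa using hidx.2) hidx.1
  exact ⟨hN, by simpa using h1, ρ, hρ, h2, htr⟩

/-- The orbit certificate: `Q` lists distinct points with positions `pos`, closed under the words,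
and each but the first is the image of an earlier one (`R` gives position and word number). -/
noncomputable def orbitOK (K N : ℕ) (T : PTree) (HL : List (List ℕ)) (Q pos R : PTree) (n : ℕ) :
    Bool :=
  allBelow n fun j =>
    force (get32 Q j) fun q =>
    Nat.blt q N && Nat.beq (get32 pos q) j &&
    (List.rec (motive := fun _ => Bool) true (fun l _ ih =>
      (force (scan K T l q) fun q' => force (get32 pos q') fun p =>
        Nat.blt p n && Nat.beq (get32 Q p) q') && ih) HL) &&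
    Bool.rec
      (force (get32 R (Nat.mul j 2)) fun j' => force (get32 R (Nat.add (Nat.mul j 2) 1)) fun w =>
        Nat.blt j' j && Nat.blt w HL.length && Nat.beq (scan K T (HL.getD w []) (get32 Q j')) q)
      true (Nat.beq j 0)

/-- The length of an orbit of the subgroup on the table, and a test for membership. -/
theorem orbit_spec (L : Letters α) (S : Set (FreeGroup α)) (N : ℕ) (T : PTree)
    (ρ : PresentedGroup S →* Equiv.Perm (Fin N))
    (hρ : ∀ g < L.K, ∀ i : Fin N, ((ρ (L.phi S g))⁻¹ i).1 = get32 T (i.1 * L.K + g))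
    (HL : List (List ℕ)) (hHL : ∀ l ∈ HL, ∀ g ∈ l, g < L.K) (Q pos R : PTree) (n : ℕ)
    (h : orbitOK L.K N T HL Q pos R n = true) (x : Fin N) (hn : 0 < n) (hx : get32 Q 0 = x.1) :
    {y | ∃ a ∈ subOf L S HL, ρ a x = y}.ncard = n ∧
      (∀ y, (∃ a ∈ subOf L S HL, ρ a x = y) → get32 Q (get32 pos y.1) = y.1) ∧
      ∀ m < n, ∀ y : Fin N, y.1 = get32 Q m → ∃ a ∈ subOf L S HL, ρ a x = y := by
  classical
  have hscan : ∀ (l : List ℕ), (∀ g ∈ l, g < L.K) → ∀ i : Fin N,
      ((ρ (l.map (L.phi S)).prod)⁻¹ i).1 = scan L.K T l i.1 := by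
    intro l
    induction l with
    | nil => intro _ i; simp [scan]
    | cons g l ih =>
      intro hl i
      rw [List.map_cons, List.prod_cons, map_mul, mul_inv_rev, Equiv.Perm.mul_apply,
        ih (fun x hx => hl x (List.mem_cons_of_mem _ hx)), hρ g (hl g List.mem_cons_self)]
      change scan L.K T l (get32 T (i.1 * L.K + g)) =
        force (get32 T (Nat.add (Nat.mul i.1 L.K) g)) (scan L.K T l)
      rw [force_eq]; rfl
  have hj := allBelow_iff.1 h
  simp only [force_eq, Bool.and_eq_true, Nat.blt_eq, Nat.beq_eq] at hj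
  let f : Fin n → Fin N := fun j => ⟨get32 Q j.1, (hj j.1 j.2).1.1.1⟩
  have hinj : Function.Injective f := by
    intro a b hab
    have : get32 Q a.1 = get32 Q b.1 := congrArg Fin.val hab
    apply Fin.ext
    rw [← (hj a.1 a.2).1.1.2, this, (hj b.1 b.2).1.1.2]
  have hcl : ∀ l ∈ HL, ∀ j : Fin n, ∃ j' : Fin n, scan L.K T l (get32 Q j.1) = get32 Q j'.1 := by
    intro l hl j
    have h' := (hj j.1 j.2).1.2
    clear hHL h hj hinj f
    induction HL with
    | nil => simp at hl
    | cons a as ih =>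
      simp only [Bool.and_eq_true, Nat.blt_eq, Nat.beq_eq] at h'
      rcases List.mem_cons.1 hl with rfl | hl
      · exact ⟨⟨_, h'.1.1⟩, h'.1.2.symm⟩
      · exact ih hl h'.2
  have hback : ∀ l ∈ HL, ∀ z ∈ Set.range f, (ρ (l.map (L.phi S)).prod)⁻¹ z ∈ Set.range f := by
    rintro l hl _ ⟨j, rfl⟩
    obtain ⟨j', hj'⟩ := hcl l hl j
    refine ⟨j', Fin.ext ?_⟩
    rw [hscan l (hHL l hl)]
    exact hj'.symm
  have hinvariant : ∀ a ∈ subOf L S HL, ∀ z, (z ∈ Set.range f ↔ ρ a z ∈ Set.range f) := by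
    intro a ha
    induction ha using Subgroup.closure_induction with
    | mem a ha =>
      obtain ⟨l, hl, rfl⟩ := ha
      set σ := (ρ (l.map (L.phi S)).prod)⁻¹ with hσ
      have himg : σ '' Set.range f = Set.range f := by
        refine Set.eq_of_subset_of_ncard_le ?_ ?_ (Set.toFinite _)
        · rintro _ ⟨z, hz, rfl⟩; exact hback l hl z hz
        · rw [Set.ncard_image_of_injective _ σ.injective]
      intro z
      constructor
      · intro hz
        rw [← himg] at hz
        obtain ⟨w, hw, rfl⟩ := hz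
        rw [hσ, Equiv.Perm.inv_def, Equiv.apply_symm_apply]
        exact hw
      · intro hz
        have := hback l hl _ hz
        rwa [Equiv.Perm.inv_def, Equiv.symm_apply_apply] at this
    | one => intro z; simp
    | mul a b _ _ ha hb => intro z; rw [map_mul, Equiv.Perm.mul_apply, hb z, ha]
    | inv a _ ha => intro z; rw [ha ((ρ a⁻¹) z)]; simp
  have hreach : ∀ m, ∀ hm : m < n, ∃ a ∈ subOf L S HL, ρ a x = f ⟨m, hm⟩ := by
    intro m
    induction m using Nat.strong_induction_on with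
    | _ m ih =>
      intro hm
      rcases eq_or_ne m 0 with rfl | hne
      · exact ⟨1, Subgroup.one_mem _, Fin.ext (by simp [f, hx])⟩
      have h' := (hj m hm).2
      rw [show Nat.beq m 0 = false by rw [← Bool.not_eq_true, Nat.beq_eq]; exact hne] at h'
      simp only [Bool.and_eq_true, Nat.blt_eq, Nat.beq_eq] at h'
      obtain ⟨⟨hj', hw⟩, hs⟩ := h'
      obtain ⟨a, ha, hax⟩ := ih _ hj' (by omega)
      have hl := List.getElem_mem hw
      refine ⟨((HL.getD (get32 R (Nat.add (Nat.mul m 2) 1)) []).map (L.phi S)).prod⁻¹ * a, ?_, ?_⟩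
      · rw [List.getD_eq_getElem _ _ hw]
        exact Subgroup.mul_mem _ (Subgroup.inv_mem _ (Subgroup.subset_closure ⟨_, hl, rfl⟩)) ha
      · apply Fin.ext
        rw [map_mul, map_inv, Equiv.Perm.mul_apply, hax, hscan]
        · exact hs
        · rw [List.getD_eq_getElem _ _ hw]; exact hHL _ hl
  have hset : {y | ∃ a ∈ subOf L S HL, ρ a x = y} = Set.range f := by
    ext y
    constructor
    · rintro ⟨a, ha, rfl⟩
      exact (hinvariant a ha x).1 ⟨⟨0, hn⟩, Fin.ext hx⟩
    · rintro ⟨⟨m, hm⟩, rfl⟩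
      exact hreach m hm
  refine ⟨by rw [hset, Set.ncard_range_of_injective hinj, Nat.card_fin], fun y hy => ?_,
    fun m hm y hy => by obtain ⟨a, ha, hax⟩ := hreach m hm; exact ⟨a, ha, hax.trans (Fin.ext hy.symm)⟩⟩
  have hy' : y ∈ Set.range f := hset ▸ hy
  obtain ⟨j, rfl⟩ := hy'
  exact congrArg (get32 Q) (hj j.1 j.2).1.1.2

end Cfsg.Agent.Lib.CosetEnum
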