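import Cfsg.Agent.Lib.CosetEnum.OutTwo

/-!
The criterion of `OutTwo`, with candidates only for representatives of the exponents.
-/

set_option autoImplicit false

namespace Cfsg.Agent.Lib.CosetEnum

/-- Every check on a triple but the candidates, with representatives of the exponents. -/
noncomputable def tripOKK (T : ℕ → ℕ → ℕ) (bs : List ℕ) (E : ℕ) (c : Trip) (ks : List ℕ) : Bool :=
  ([c.x, c.s, c.t, c.ex, c.es, c.et] ++ c.X ++ c.U).all (fun i => Nat.blt i E) &&
  c.rels.all (fun w => w.all (fun i => Nat.blt i 3) && eqW T bs (subst [c.x] [c.s] [c.t] w) []) &&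
  Nat.beq c.X.length c.p && eqW T bs [c.xp 0] [] &&
  allBelow (c.p - 1) (fun k => eqW T bs [c.xp (Nat.add k 1)] [c.xp k, c.x]) &&
  eqW T bs [c.xp (c.p - 1), c.x] [] && !(eqW T bs [c.x] []) &&
  eqW T bs [c.s, c.x] (List.replicate c.r c.x ++ [c.s]) &&
  eqW T bs [c.t, c.s] (List.replicate c.e c.s ++ [c.t]) &&
  eqW T bs [c.es] [c.s] &&
  c.X.all (fun i => c.X.any fun m => eqW T bs [c.s, i, m] [m, c.s]) &&
  c.U.all (fun g => eqW T bs [g, c.s] [c.s, g]) &&
  c.U.all (fun g => !(eqW T bs [g, c.x] [c.ex, g] && eqW T bs [g, c.t] [c.et, g])) &&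
  ks.all (fun k => Nat.blt k c.p && !(Nat.beq k 0)) &&
  allBelow c.p (fun k => Nat.beq k 0 ||
    ks.any fun k' => c.U.any fun g => eqW T bs [g, c.xp k'] [c.xp k, g])

open Cfsg in
/-- The criterion. -/
theorem card_out_twoK {G : Type} [Group G] [Finite G] {N : ℕ} (M : Model G N) (c : Trip)
    (ks : List ℕ) (h : tripOKK M.T M.bs M.E c ks = true)
    (hcand : ∀ k ∈ ks, c.U.all (candOK M.T M.bs c k) = true) (hp : c.p.Prime) (hp2 : ¬ c.p ^ 2 ∣ Nat.card G)
    (hgen : Subgroup.closure ({M.el c.x, M.el c.s, M.el c.t} : Set G) = ⊤)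
    (hcx : ∀ g : G, g * M.el c.x = M.el c.x * g → ∃ u ∈ c.X, g = M.el u)
    (hcs : ∀ g : G, g * M.el c.s = M.el c.s * g → ∃ u ∈ c.U, g = M.el u)
    (e : MulAut G) (hex : e (M.el c.x) = M.el c.ex) (hes : e (M.el c.s) = M.el c.es)
    (het : e (M.el c.t) = M.el c.et) :
    Nat.card (Out G) = 2 := by
  haveI : Fact c.p.Prime := ⟨hp⟩
  simp only [tripOKK, Bool.and_eq_true, List.all_eq_true, List.any_eq_true, List.mem_append,
    List.mem_cons, List.not_mem_nil, or_false, Nat.beq_eq, allBelow_iff, Bool.not_eq_true',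
    Nat.blt_eq] at h
  obtain ⟨⟨⟨⟨⟨⟨⟨⟨⟨⟨⟨⟨⟨⟨hlt, hrels⟩, hlen⟩, hX0⟩, hXs⟩, hXp⟩, hxne⟩, hsx⟩, hts⟩, hess⟩, hshift⟩,
    hUs⟩, hnin⟩, hksOK⟩, hkcov⟩ := h
  set x := M.el c.x with hxdef
  set s := M.el c.s with hsdef
  set t := M.el c.t with htdef
  have hUlt : ∀ u ∈ c.U, u < M.E := fun u hu => hlt u (Or.inr hu)
  have hXlt : ∀ u ∈ c.X, u < M.E := fun u hu => hlt u (Or.inl (Or.inr hu))
  have hx : c.x < M.E := hlt _ (by simp)
  have hs : c.s < M.E := hlt _ (by simp)
  have ht : c.t < M.E := hlt _ (by simp)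
  have hxi : c.ex < M.E := hlt _ (by simp)
  have hti : c.et < M.E := hlt _ (by simp)
  have hsi : c.es < M.E := hlt _ (by simp)
  have hxpmem : ∀ k < c.p, c.xp k ∈ c.X := fun k hk => by
    rw [Trip.xp, List.getD_eq_getElem _ _ (hlen.symm ▸ hk)]; exact List.getElem_mem _
  have hxp : ∀ k < c.p, M.el (c.xp k) = x ^ k := by
    intro k
    induction k with
    | zero =>
      intro hk
      have := M.eq_of_eqW (by simpa using hXlt _ (hxpmem 0 hk)) (by simp) hX0
      simpa [Model.val] using this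
    | succ k ih =>
      intro hk
      have h1 := hXs k (by omega)
      have := M.eq_of_eqW (by simpa using hXlt _ (hxpmem (k + 1) hk))
        (by simpa using ⟨hXlt _ (hxpmem k (by omega)), hx⟩) h1
      simp only [Model.val, List.map_cons, List.map_nil, List.prod_cons, List.prod_nil, mul_one,
        Nat.add_eq] at this
      rw [this, ih (by omega), pow_succ]
  have hxlast : x ^ c.p = 1 := by
    have := M.eq_of_eqW (by simpa using ⟨hXlt _ (hxpmem (c.p - 1) (by have := hp.pos; omega)), hx⟩)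
      (by simp) hXp
    simp only [Model.val, List.map_cons, List.map_nil, List.prod_cons, List.prod_nil, mul_one] at this
    rwa [hxp _ (by have := hp.pos; omega), ← pow_succ, Nat.sub_add_cancel hp.pos] at this
  have hx1 : x ≠ 1 := by
    intro h1
    have : eqW M.T M.bs [c.x] [] = true :=
      (M.eqW_iff (by simpa using hx) (by simp)).2 (by simpa [Model.val] using h1)
    rw [this] at hxne
    exact Bool.noConfusion hxne
  have hox : orderOf x = c.p := orderOf_eq_prime hxlast hx1
  have hpow : ∀ m : ℕ, x ^ (m % c.p) = x ^ m := fun m => by rw [← hox]; exact pow_mod_orderOf _ _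
  have hsx' : s * x = x ^ c.r * s := by
    have := M.eq_of_eqW (by simpa using ⟨hs, hx⟩) (by
      intro k hk; rcases List.mem_append.1 hk with hk | hk
      · rw [List.eq_of_mem_replicate hk]; exact hx
      · rw [List.mem_singleton.1 hk]; exact hs) hsx
    simpa [Model.val, List.map_replicate] using this
  have hts' : t * s = s ^ c.e * t := by
    have := M.eq_of_eqW (by simpa using ⟨ht, hs⟩) (by
      intro k hk; rcases List.mem_append.1 hk with hk | hk
      · rw [List.eq_of_mem_replicate hk]; exact hs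
      · rw [List.mem_singleton.1 hk]; exact ht) hts
    simpa [Model.val, List.map_replicate] using this
  have hes' : e s = s := by
    rw [hes]
    simpa [Model.val] using M.eq_of_eqW (by simpa using hsi) (by simpa using hs) hess
  have hgcomm : ∀ g ∈ c.U, M.el g * s = s * M.el g := fun g hg => by
    simpa [Model.val] using M.eq_of_eqW (by simpa using ⟨hUlt g hg, hs⟩)
      (by simpa using ⟨hs, hUlt g hg⟩) (hUs g hg)
  -- every automorphism is normalised
  have hnorm : ∀ φ : MulAut G, ∃ g : G, ∃ k < c.p, k ≠ 0 ∧ ∃ u ∈ c.U,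
      φ x = g * x ^ k * g⁻¹ ∧ φ s = g * s * g⁻¹ ∧ φ t = g * (t * M.el u) * g⁻¹ ∧ k ∈ ks := by
    intro φ
    obtain ⟨P⟩ : Nonempty (Sylow c.p G) := inferInstance
    have hoφ : orderOf (φ x) = c.p := by
      rw [← hox]; exact orderOf_injective φ.toMonoidHom φ.injective x
    -- Sylow subgroups have order p, so φ x is conjugate to a power of x
    have hzc : Nat.card (Subgroup.zpowers x) = c.p ^ (Nat.card G).factorization c.p := by
      have hd : c.p ∣ Nat.card G := hox ▸ orderOf_dvd_natCard x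
      have h1 : (Nat.card G).factorization c.p = 1 := by
        have a1 : 1 ≤ (Nat.card G).factorization c.p :=
          (hp.pow_dvd_iff_le_factorization Nat.card_pos.ne').1 (by rwa [pow_one])
        have a2 : ¬ 2 ≤ (Nat.card G).factorization c.p := fun hh =>
          hp2 ((hp.pow_dvd_iff_le_factorization Nat.card_pos.ne').2 hh)
        omega
      rw [Nat.card_zpowers, hox, h1, pow_one]
    have hzc' : Nat.card (Subgroup.zpowers (φ x)) = c.p ^ (Nat.card G).factorization c.p := by
      rw [Nat.card_zpowers, hoφ, ← hzc, Nat.card_zpowers, hox]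
    obtain ⟨g, hg⟩ := MulAction.exists_smul_eq G (Sylow.ofCard _ hzc) (Sylow.ofCard _ hzc')
    have hgmem : g⁻¹ * φ x * g ∈ Subgroup.zpowers x := by
      have : φ x ∈ ((g • Sylow.ofCard _ hzc : Sylow c.p G) : Subgroup G) := by
        rw [hg]; exact Subgroup.mem_zpowers _
      rw [Sylow.coe_subgroup_smul, Subgroup.mem_pointwise_smul_iff_inv_smul_mem] at this
      simpa [MulAut.smul_def, mul_assoc] using this
    obtain ⟨k, hk⟩ := (Submonoid.mem_powers_iff _ _).1 (mem_powers_iff_mem_zpowers.2 hgmem)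
    have hk0 : k % c.p ≠ 0 := by
      intro h0
      rw [← hpow, h0, pow_zero] at hk
      refine hx1 (φ.injective ?_)
      calc φ x = g * (g⁻¹ * φ x * g) * g⁻¹ := by group
        _ = 1 := by rw [← hk]; group
        _ = φ 1 := (map_one φ).symm
    have hφx : φ x = g * x ^ k * g⁻¹ := by rw [hk]; group
    obtain ⟨k', hk'⟩ : ∃ k' : ℕ, x = (x ^ k) ^ k' := by
      have hcop : Nat.Coprime k c.p := by
        rw [Nat.coprime_comm, hp.coprime_iff_not_dvd]
        exact fun h => hk0 (Nat.mod_eq_zero_of_dvd h)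
      obtain ⟨m, hm⟩ := exists_pow_eq_self_of_coprime (x := x) (by rwa [hox])
      exact ⟨m, hm.symm⟩
    -- the image of s
    obtain ⟨ψs, hψs⟩ : ∃ a, a = g⁻¹ * φ s * g := ⟨_, rfl⟩
    have h1 : ψs * x ^ k = s * x ^ k * s⁻¹ * ψs := by
      have ha : φ s * φ x = φ x ^ c.r * φ s := by rw [← map_mul, hsx', map_mul, map_pow]
      have hb : s * x ^ k * s⁻¹ = (x ^ k) ^ c.r := by
        rw [← conj_pow, show s * x * s⁻¹ = x ^ c.r by rw [hsx']; group, ← pow_mul, ← pow_mul, mul_comm]
      rw [hb, hψs]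
      rw [hφx, conj_pow] at ha
      calc g⁻¹ * φ s * g * x ^ k = g⁻¹ * (φ s * (g * x ^ k * g⁻¹)) * g := by group
        _ = _ := by rw [ha]; group
    have h2 : (s⁻¹ * ψs) * x ^ k * (s⁻¹ * ψs)⁻¹ = x ^ k := by
      calc _ = s⁻¹ * (ψs * x ^ k) * ψs⁻¹ * s := by group
        _ = _ := by rw [h1]; group
    have h3 : (s⁻¹ * ψs) * x * (s⁻¹ * ψs)⁻¹ = x := by
      conv_lhs => rw [hk']
      rw [← conj_pow, h2, ← hk']
    obtain ⟨i, hi, hieq⟩ := hcx _ (mul_inv_eq_iff_eq_mul.1 h3)
    obtain ⟨m, hm, hm'⟩ := hshift i hi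
    have hmE := hXlt m hm
    have hconj := M.eq_of_eqW (by simpa using ⟨hs, hXlt i hi, hmE⟩) (by simpa using ⟨hmE, hs⟩) hm'
    simp only [Model.val, List.map_cons, List.map_nil, List.prod_cons, List.prod_nil, mul_one] at hconj
    obtain ⟨a, ha⟩ : ∃ a : ℕ, M.el m = x ^ a := by
      obtain ⟨a, ha, rfl⟩ := List.mem_iff_getElem.1 hm
      exact ⟨a, by rw [← hxp a (hlen ▸ ha), Trip.xp, List.getD_eq_getElem _ _ ha]⟩
    have hψ : ψs = M.el m * s * (M.el m)⁻¹ := by
      rw [← hconj, ← hieq, ← hsdef]; group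
    have hφs : φ s = (g * M.el m) * s * (g * M.el m)⁻¹ := by
      calc φ s = g * ψs * g⁻¹ := by rw [hψs]; group
        _ = _ := by rw [hψ]; group
    have hφx' : φ x = (g * M.el m) * x ^ (k % c.p) * (g * M.el m)⁻¹ := by
      rw [hφx, hpow, ha]
      calc g * x ^ k * g⁻¹ = g * (x ^ k * x ^ a) * (x ^ a)⁻¹ * g⁻¹ := by group
        _ = g * (x ^ a * x ^ k) * (x ^ a)⁻¹ * g⁻¹ := by rw [← pow_add, ← pow_add, add_comm]
        _ = _ := by group
    generalize g * M.el m = w₀ at hφs hφx'
    -- replace the exponent by a representative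
    have hkl : k % c.p < c.p := Nat.mod_lt _ hp.pos
    have hcov := hkcov _ hkl
    rw [Bool.or_eq_true, Nat.beq_eq, List.any_eq_true] at hcov
    rcases hcov with h0 | ⟨k₂, hk₂, hg₂⟩
    · exact absurd h0 hk0
    rw [List.any_eq_true] at hg₂
    obtain ⟨g₂, hg₂U, hg₂eq⟩ := hg₂
    obtain ⟨hk₂lt, hk₂0⟩ := hksOK k₂ hk₂
    have hg₂E := hUlt g₂ hg₂U
    have a1 := M.eq_of_eqW (by simpa using ⟨hg₂E, hXlt _ (hxpmem k₂ hk₂lt)⟩)
      (by simpa using ⟨hXlt _ (hxpmem _ hkl), hg₂E⟩) hg₂eq
    simp only [Model.val, List.map_cons, List.map_nil, List.prod_cons, List.prod_nil, mul_one] at a1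
    rw [hxp k₂ hk₂lt, hxp _ hkl] at a1
    have hφx₂ : φ x = (w₀ * M.el g₂) * x ^ k₂ * (w₀ * M.el g₂)⁻¹ := by
      rw [hφx']
      calc w₀ * x ^ (k % c.p) * w₀⁻¹ = w₀ * (x ^ (k % c.p) * M.el g₂) * (M.el g₂)⁻¹ * w₀⁻¹ := by group
        _ = _ := by rw [← a1]; group
    have hφs₂ : φ s = (w₀ * M.el g₂) * s * (w₀ * M.el g₂)⁻¹ := by
      rw [hφs]
      calc w₀ * s * w₀⁻¹ = w₀ * (s * M.el g₂) * (M.el g₂)⁻¹ * w₀⁻¹ := by group
        _ = _ := by rw [← hgcomm g₂ hg₂U]; group
    clear hφx' hφs
    rename' hφx₂ => hφx', hφs₂ => hφs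
    generalize w₀ * M.el g₂ = w at hφs hφx'
    -- the image of t
    have h4 : (t⁻¹ * (w⁻¹ * φ t * w)) * s = s * (t⁻¹ * (w⁻¹ * φ t * w)) := by
      have ha : φ t * φ s = φ s ^ c.e * φ t := by rw [← map_mul, hts', map_mul, map_pow]
      rw [hφs, conj_pow] at ha
      have hb : w⁻¹ * φ t * w * s = s ^ c.e * (w⁻¹ * φ t * w) := by
        calc w⁻¹ * φ t * w * s = w⁻¹ * (φ t * (w * s * w⁻¹)) * w := by group
          _ = _ := by rw [ha]; group
      calc t⁻¹ * (w⁻¹ * φ t * w) * s = t⁻¹ * (w⁻¹ * φ t * w * s) := by group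
        _ = t⁻¹ * (s ^ c.e * t) * (t⁻¹ * (w⁻¹ * φ t * w)) := by rw [hb]; group
        _ = _ := by rw [← hts']; group
    obtain ⟨u, hu, hueq⟩ := hcs _ h4
    refine ⟨w, k₂, hk₂lt, fun h0 => by rw [h0] at hk₂0; simp at hk₂0, u, hu, hφx', hφs, ?_, hk₂⟩
    rw [← hueq]; group
  -- e is not inner
  have hne : e ∉ Inn G := by
    rintro ⟨g, hg⟩
    have hcomm : g * s = s * g := by
      have : MulAut.conj g s = s := by rw [hg, hes']
      rw [MulAut.conj_apply] at this
      exact mul_inv_eq_iff_eq_mul.1 this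
    obtain ⟨u, hu, hgu⟩ := hcs g hcomm
    have huE := hUlt u hu
    have h1 : eqW M.T M.bs [u, c.x] [c.ex, u] = true :=
      (M.eqW_iff (by simpa using ⟨huE, hx⟩) (by simpa using ⟨hxi, huE⟩)).2 (by
        simp only [Model.val, List.map_cons, List.map_nil, List.prod_cons, List.prod_nil, mul_one]
        rw [← hgu, ← hex, ← hg, MulAut.conj_apply, ← hxdef]; group)
    have h2 : eqW M.T M.bs [u, c.t] [c.et, u] = true :=
      (M.eqW_iff (by simpa using ⟨huE, ht⟩) (by simpa using ⟨hti, huE⟩)).2 (by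
        simp only [Model.val, List.map_cons, List.map_nil, List.prod_cons, List.prod_nil, mul_one]
        rw [← hgu, ← het, ← hg, MulAut.conj_apply, ← htdef]; group)
    have := hnin u hu
    simp [h1, h2] at this
  -- every automorphism is inner or inner times e
  have hall : ∀ φ : MulAut G, φ ∈ Inn G ∨ φ * e⁻¹ ∈ Inn G := by
    intro φ
    obtain ⟨w, k, hk, hk0, u, hu, hφx, hφs, hφt, hkks⟩ := hnorm φ
    have huE := hUlt u hu
    have hkE := hXlt _ (hxpmem k hk)
    have hc : candOK M.T M.bs c k u = true := List.all_eq_true.1 (hcand k hkks) u hu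
    simp only [candOK, Bool.or_eq_true, List.any_eq_true, Bool.and_eq_true,
      Bool.not_eq_true'] at hc
    have hdense : ∀ ψ : MulAut G, ψ x = φ x → ψ s = φ s → ψ t = φ t → ψ = φ := by
      intro ψ a1 a2 a3
      have heq : ψ.toMonoidHom = φ.toMonoidHom := by
        refine MonoidHom.eq_of_eqOn_dense hgen ?_
        rintro y (rfl | rfl | rfl)
        · exact a1
        · exact a2
        · exact a3
      exact MulEquiv.ext fun y => DFunLike.congr_fun heq y
    rcases hc with ⟨r, hr, hbad⟩ | ⟨g, hg, hcase⟩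
    · exfalso
      obtain ⟨hr3, hrel⟩ := hrels r hr
      have hsubE : ∀ a b d : List ℕ, (∀ i ∈ a, i < M.E) → (∀ i ∈ b, i < M.E) → (∀ i ∈ d, i < M.E) →
          ∀ i ∈ subst a b d r, i < M.E := by
        intro a b d ha hb hd i hi
        rw [subst, List.mem_flatMap] at hi
        obtain ⟨j, hj, hi⟩ := hi
        have := hr3 j hj
        match j, this with
        | 0, _ => exact ha i hi
        | 1, _ => exact hb i hi
        | 2, _ => exact hd i hi
      have e1 := M.eq_of_eqW (hsubE _ _ _ (by simpa using hx) (by simpa using hs) (by simpa using ht))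
        (by simp) hrel
      rw [subst_val M [c.x] [c.s] [c.t] x s t (by simp [Model.val, hxdef]) (by simp [Model.val, hsdef])
        (by simp [Model.val, htdef]) r hr3] at e1
      have e2 : M.val (subst [c.xp k] [c.s] [c.t, u] r) = 1 := by
        rw [subst_val M [c.xp k] [c.s] [c.t, u] (x ^ k) s (t * M.el u) (by simp [Model.val, hxp k hk])
          (by simp [Model.val, hsdef]) (by simp [Model.val, htdef]) r hr3]
        have e3 : ∀ l : List ℕ, (∀ j ∈ l, j < 3) →
            φ ((l.map fun i => [x, s, t].getD i 1).prod) =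
              w * (l.map fun i => [x ^ k, s, t * M.el u].getD i 1).prod * w⁻¹ := by
          intro l
          induction l with
          | nil => simp
          | cons j l ih =>
            intro hl
            rw [List.map_cons, List.prod_cons, map_mul, ih fun i hi => hl i (List.mem_cons_of_mem _ hi),
              List.map_cons, List.prod_cons]
            match j, hl j List.mem_cons_self with
            | 0, _ => simp only [List.getD_cons_zero]; rw [hφx]; group
            | 1, _ => simp only [List.getD_cons_succ, List.getD_cons_zero]; rw [hφs]; group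
            | 2, _ => simp only [List.getD_cons_succ, List.getD_cons_zero]; rw [hφt]; group
        have e4 := e3 r hr3
        rw [e1, Model.val, List.map_nil, List.prod_nil, map_one] at e4
        exact conj_eq_one_iff.1 e4.symm
      have : eqW M.T M.bs (subst [c.xp k] [c.s] [c.t, u] r) [] = true :=
        (M.eqW_iff (hsubE _ _ _ (by simpa using hkE) (by simpa using hs)
          (by simpa using ⟨ht, huE⟩)) (by simp)).2 (by rw [e2]; rfl)
      rw [this] at hbad
      exact Bool.noConfusion hbad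
    · have hgE := hUlt g hg
      rcases hcase with ⟨hgx, hgt⟩ | ⟨hgx, hgt⟩
      · left
        have a1 := M.eq_of_eqW (by simpa using ⟨hgE, hx⟩) (by simpa using ⟨hkE, hgE⟩) hgx
        have a2 := M.eq_of_eqW (by simpa using ⟨hgE, ht⟩) (by simpa using ⟨ht, huE, hgE⟩) hgt
        simp only [Model.val, List.map_cons, List.map_nil, List.prod_cons, List.prod_nil, mul_one] at a1 a2
        rw [hxp k hk] at a1
        refine ⟨w * M.el g, hdense _ ?_ ?_ ?_⟩
        · rw [MulAut.conj_apply, hφx]
          calc w * M.el g * x * (w * M.el g)⁻¹ = w * (M.el g * x) * (M.el g)⁻¹ * w⁻¹ := by group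
            _ = _ := by rw [a1]; group
        · rw [MulAut.conj_apply, hφs]
          calc w * M.el g * s * (w * M.el g)⁻¹ = w * (M.el g * s) * (M.el g)⁻¹ * w⁻¹ := by group
            _ = _ := by rw [(hgcomm g hg)]; group
        · rw [MulAut.conj_apply, hφt]
          calc w * M.el g * t * (w * M.el g)⁻¹ = w * (M.el g * t) * (M.el g)⁻¹ * w⁻¹ := by group
            _ = _ := by rw [a2, ← htdef]; group
      · right
        have a1 := M.eq_of_eqW (by simpa using ⟨hgE, hxi⟩) (by simpa using ⟨hkE, hgE⟩) hgx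
        have a2 := M.eq_of_eqW (by simpa using ⟨hgE, hti⟩) (by simpa using ⟨ht, huE, hgE⟩) hgt
        simp only [Model.val, List.map_cons, List.map_nil, List.prod_cons, List.prod_nil, mul_one] at a1 a2
        rw [hxp k hk] at a1
        have heq : MulAut.conj (w * M.el g) * e = φ := by
          refine hdense _ ?_ ?_ ?_
          · rw [MulAut.mul_apply, MulAut.conj_apply, hex, hφx]
            calc w * M.el g * M.el c.ex * (w * M.el g)⁻¹
                = w * (M.el g * M.el c.ex) * (M.el g)⁻¹ * w⁻¹ := by group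
              _ = _ := by rw [a1]; group
          · rw [MulAut.mul_apply, MulAut.conj_apply, hes', hφs]
            calc w * M.el g * s * (w * M.el g)⁻¹ = w * (M.el g * s) * (M.el g)⁻¹ * w⁻¹ := by group
              _ = _ := by rw [(hgcomm g hg)]; group
          · rw [MulAut.mul_apply, MulAut.conj_apply, het, hφt]
            calc w * M.el g * M.el c.et * (w * M.el g)⁻¹
                = w * (M.el g * M.el c.et) * (M.el g)⁻¹ * w⁻¹ := by group
              _ = _ := by rw [a2, ← htdef]; group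
        exact ⟨w * M.el g, by rw [← heq, mul_inv_cancel_right]⟩
  have hne' : (QuotientGroup.mk e : Out G) ≠ 1 := fun h => hne ((QuotientGroup.eq_one_iff _).mp h)
  rw [Nat.card_eq_two_iff]
  refine ⟨QuotientGroup.mk e, 1, hne', Set.eq_univ_of_forall fun a => ?_⟩
  obtain ⟨φ, rfl⟩ := QuotientGroup.mk_surjective a
  rcases hall φ with h | h
  · exact Or.inr ((QuotientGroup.eq_one_iff _).mpr h)
  · left
    have h1 : (QuotientGroup.mk (φ * e⁻¹) : Out G) = 1 := (QuotientGroup.eq_one_iff _).mpr h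
    exact mul_inv_eq_one.mp h1

end Cfsg.Agent.Lib.CosetEnum
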