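import Cfsg.Agent.Lib.CosetEnum.OutLetters
import Cfsg.Agent.Lib.CosetEnum.OutTwoK

/-!
The criterion of `OutLetters`, with candidates only for representatives of the exponents.
-/

set_option autoImplicit false

namespace Cfsg.Agent.Lib.CosetEnum

variable {α : Type} [DecidableEq α] (L : Letters α) (S : Set (FreeGroup α)) {N : ℕ} {T : PTree}
  (ρ : PresentedGroup S →* Equiv.Perm (Fin N))

open Cfsg in
/-- The criterion with words in the letters. -/
theorem card_out_two_lettersK (hS : SameRels L S) (hok : L.OK)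
    (hcol : ∀ a, L.col a < L.K ∧ L.sym (L.col a) = (a, true))
    (hsym : ∀ g < L.K, if (L.sym g).2 then L.col (L.sym g).1 = g
      else invL L.IV (L.col (L.sym g).1) = g)
    [Finite (PresentedGroup S)] [IsSimpleGroup (PresentedGroup S)]
    (M : Model (PresentedGroup S) N) (hE : M.E = L.K) (hel : M.el = L.phi S)
    (img : List (List ℕ)) (himg : allBelow L.K (fun g =>
      (img.getD g []).all (fun k => Nat.blt k L.K)) = true)
    (hrels : L.RL.all (fun l => eqW M.T M.bs (substL img l) []) = true)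
    (hne : eqW M.T M.bs (img.getD 0 []) [] = false) (hK : 0 < L.K)
    (wx ws wt : List ℕ) (W : List (List ℕ)) (c : Trip) (ks : List ℕ)
    (hW : ([wx, ws, wt] ++ W).all (fun w => w.all fun k => Nat.blt k L.K) = true)
    (hidx : c.x = L.K ∧ c.s = L.K + 1 ∧ c.t = L.K + 2 ∧ c.ex = L.K + 3 ∧ c.es = L.K + 4 ∧ c.et = L.K + 5)
    (htrip : tripOKK (tabW M.T L.K (tripWords img wx ws wt W)) M.bs
      (L.K + (tripWords img wx ws wt W).length) c ks = true)
    (hcand : ∀ k ∈ ks, c.U.all (candOK (tabW M.T L.K (tripWords img wx ws wt W)) M.bs c k) = true)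
    (gen3 : List (List ℕ)) (hgen3 : allBelow L.K (fun g =>
      (gen3.getD g []).all (fun i => Nat.blt i 3) &&
        eqW M.T M.bs [g] (subst wx ws wt (gen3.getD g []))) = true)
    (hp : c.p.Prime) (hp2 : ¬ c.p ^ 2 ∣ Nat.card (PresentedGroup S))
    (hcx : ∀ g : PresentedGroup S, g * M.val wx = M.val wx * g →
      ∃ u ∈ c.X, g = M.val ((tripWords img wx ws wt W).getD (u - L.K) []) ∧ L.K ≤ u)
    (hcs : ∀ g : PresentedGroup S, g * M.val ws = M.val ws * g →
      ∃ u ∈ c.U, g = M.val ((tripWords img wx ws wt W).getD (u - L.K) []) ∧ L.K ≤ u) :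
    Nat.card (Cfsg.Out (PresentedGroup S)) = 2 := by
  classical
  obtain ⟨e, he⟩ := exists_aut L S hS hok hcol hsym M hE hel img himg hrels hne hK
  simp only [List.all_eq_true, List.mem_append, List.mem_cons, List.not_mem_nil, or_false,
    Nat.blt_eq] at hW
  have h1 : ∀ g ∈ wx, g < L.K := hW wx (Or.inl (Or.inl rfl))
  have h2 : ∀ g ∈ ws, g < L.K := hW ws (Or.inl (Or.inr (Or.inl rfl)))
  have h3 : ∀ g ∈ wt, g < L.K := hW wt (Or.inl (Or.inr (Or.inr rfl)))
  have hwords : ∀ w ∈ tripWords img wx ws wt W, ∀ k ∈ w, k < M.E := by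
    intro w hw k hk
    simp only [tripWords, List.mem_append, List.mem_cons, List.not_mem_nil, or_false] at hw
    rcases hw with (rfl | rfl | rfl | rfl | rfl | rfl) | hw
    · rw [hE]; exact h1 k hk
    · rw [hE]; exact h2 k hk
    · rw [hE]; exact h3 k hk
    · exact (he wx h1).2 k hk
    · exact (he ws h2).2 k hk
    · exact (he wt h3).2 k hk
    · rw [hE]; exact hW w (Or.inr hw) k hk
  let M' := M.extend (tripWords img wx ws wt W) hwords
  have hM : ∀ j, M'.el (L.K + j) = M.val ((tripWords img wx ws wt W).getD j []) := by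
    intro j
    show (if L.K + j < M.E then _ else _) = _
    rw [if_neg (by omega), hE, Nat.add_sub_cancel_left]
  have hM' : ∀ u, L.K ≤ u → M'.el u = M.val ((tripWords img wx ws wt W).getD (u - L.K) []) := by
    intro u hu
    obtain ⟨j, rfl⟩ : ∃ j, u = L.K + j := ⟨u - L.K, by omega⟩
    rw [hM, Nat.add_sub_cancel_left]
  obtain ⟨hx, hs, ht, hex, hes, het⟩ := hidx
  have hT : M'.T = tabW M.T L.K (tripWords img wx ws wt W) := by
    show tabW M.T M.E _ = _
    rw [hE]
  have e1 : M'.el c.x = M.val wx := by rw [hx, ← Nat.add_zero L.K, hM 0]; rfl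
  have e2 : M'.el c.s = M.val ws := by rw [hs, hM 1]; rfl
  have e3 : M'.el c.t = M.val wt := by rw [ht, hM 2]; rfl
  refine card_out_twoK M' c ks ?_ ?_ hp hp2 ?_ ?_ ?_ e ?_ ?_ ?_
  · rw [hT]
    show tripOKK _ M.bs (M.E + _) c ks = true
    rw [hE]; exact htrip
  · rw [hT]; exact hcand
  · rw [eq_top_iff, ← Letters.gen_closure hcol, Subgroup.closure_le]
    rintro _ ⟨g, hg, rfl⟩
    have h := allBelow_iff.1 hgen3 g hg
    simp only [Bool.and_eq_true, List.all_eq_true, Nat.blt_eq] at h
    have hlt : ∀ k ∈ subst wx ws wt (gen3.getD g []), k < M.E := by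
      intro k hk
      rw [subst, List.mem_flatMap] at hk
      obtain ⟨i, hi, hk⟩ := hk
      rw [hE]
      match i, h.1 i hi with
      | 0, _ => exact h1 k hk
      | 1, _ => exact h2 k hk
      | 2, _ => exact h3 k hk
    have heq := M.eq_of_eqW (by simpa [hE] using hg) hlt h.2
    rw [subst_val M wx ws wt _ _ _ rfl rfl rfl _ h.1] at heq
    have hg' : L.phi S g = M.val [g] := by simp [Model.val, hel]
    rw [hg', heq]
    refine Subgroup.list_prod_mem _ fun z hz => ?_
    obtain ⟨i, hi, rfl⟩ := List.mem_map.1 hz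
    apply Subgroup.subset_closure
    match i, h.1 i hi with
    | 0, _ => simp [e1]
    | 1, _ => simp [e2]
    | 2, _ => simp [e3]
  · intro g hg
    rw [e1] at hg
    obtain ⟨u, hu, hgu, hku⟩ := hcx g hg
    exact ⟨u, hu, hgu.trans (hM' u hku).symm⟩
  · intro g hg
    rw [e2] at hg
    obtain ⟨u, hu, hgu, hku⟩ := hcs g hg
    exact ⟨u, hu, hgu.trans (hM' u hku).symm⟩
  · rw [e1, hex, hM 3, (he wx h1).1]; rfl
  · rw [e2, hes, hM 4, (he ws h2).1]; rfl
  · rw [e3, het, hM 5, (he wt h3).1]; rfl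

end Cfsg.Agent.Lib.CosetEnum
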