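import Cfsg.Agent.Lib.CosetEnum.OutPresW

/-!
The outer automorphism group from a coset table alone: all elements are given by words in the letters.
-/

set_option autoImplicit false

namespace Cfsg.Agent.Lib.CosetEnum

/-- The table of a letter. -/
noncomputable def letTab (K : ℕ) (T : PTree) (g i : ℕ) : ℕ := get32 T (Nat.add (Nat.mul i K) g)

/-- Substitute words for letters. -/
def substL (img : List (List ℕ)) (w : List ℕ) : List ℕ := w.flatMap fun g => img.getD g []

variable {α : Type} [DecidableEq α] (L : Letters α) (S : Set (FreeGroup α)) {N : ℕ} {T : PTree}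
  (ρ : PresentedGroup S →* Equiv.Perm (Fin N))

/-- The model whose elements are the letters. -/
noncomputable def letterModel
    (hρ : ∀ g < L.K, ∀ i : Fin N, ((ρ (L.phi S g))⁻¹ i).1 = get32 T (i.1 * L.K + g))
    (hinj : Function.Injective ρ) (bs : List ℕ) (hlt : ∀ b ∈ bs, b < N)
    (hbase : ∀ g : PresentedGroup S, (∀ b : Fin N, b.1 ∈ bs → (ρ g)⁻¹ b = b) → g = 1) :
    Model (PresentedGroup S) N :=
  { ρ := ρ, inj := hinj, E := L.K, el := L.phi S, T := letTab L.K T,
    hel := fun g hg i => by simp only [letTab, Nat.add_eq, Nat.mul_eq]; exact hρ g hg i,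
    bs := bs, bs_lt := hlt, base := hbase }

/-- The words of a certificate: the triple, its images, and further ones. -/
def tripWords (img : List (List ℕ)) (wx ws wt : List ℕ) (W : List (List ℕ)) : List (List ℕ) :=
  [wx, ws, wt, substL img wx, substL img ws, substL img wt] ++ W

/-- Images of the generators define an automorphism, and the images of words are substituted words. -/
theorem exists_aut (hS : SameRels L S) (hok : L.OK)
    (hcol : ∀ a, L.col a < L.K ∧ L.sym (L.col a) = (a, true))
    (hsym : ∀ g < L.K, if (L.sym g).2 then L.col (L.sym g).1 = g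
      else invL L.IV (L.col (L.sym g).1) = g)
    [Finite (PresentedGroup S)] [IsSimpleGroup (PresentedGroup S)]
    (M : Model (PresentedGroup S) N) (hE : M.E = L.K) (hel : M.el = L.phi S)
    (img : List (List ℕ)) (himg : allBelow L.K (fun g =>
      (img.getD g []).all (fun k => Nat.blt k L.K)) = true)
    (hrels : L.RL.all (fun l => eqW M.T M.bs (substL img l) []) = true)
    (hne : eqW M.T M.bs (img.getD 0 []) [] = false) (hK : 0 < L.K) :
    ∃ e : MulAut (PresentedGroup S), ∀ w : List ℕ, (∀ g ∈ w, g < L.K) →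
      e (M.val w) = M.val (substL img w) ∧ ∀ k ∈ substL img w, k < M.E := by
  classical
  have himg' : ∀ g < L.K, ∀ k ∈ img.getD g [], k < M.E := by
    intro g hg k hk
    have h := allBelow_iff.1 himg g hg
    simp only [List.all_eq_true, Nat.blt_eq] at h
    rw [hE]; exact h k hk
  have hsub : ∀ w : List ℕ, (∀ g ∈ w, g < L.K) → ∀ k ∈ substL img w, k < M.E := by
    intro w hw k hk
    obtain ⟨g, hg, hkg⟩ := List.mem_flatMap.1 hk
    exact himg' g (hw g hg) k hkg
  let y : ℕ → PresentedGroup S := fun g => M.val (img.getD g [])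
  have hval : ∀ w : List ℕ, M.val (substL img w) = (w.map y).prod := by
    intro w
    induction w with
    | nil => rfl
    | cons g w ih =>
      rw [List.map_cons, List.prod_cons, ← ih, substL, List.flatMap_cons]
      simp only [Model.val, List.map_append, List.prod_append, y, substL]
  have hy : ∀ l ∈ L.RL, (l.map y).prod = 1 := by
    intro l hl
    have h := M.eq_of_eqW (hsub l (hok.2.2.2.1 l hl).1) (by simp) (List.all_eq_true.1 hrels l hl)
    rw [hval] at h
    exact h.trans rfl
  have hpair : ∀ g < L.K, invL L.IV g < L.K ∧ y (invL L.IV g) = (y g)⁻¹ := by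
    intro g hg
    have h := hok.2.2.1 g hg
    refine ⟨h.1, ?_⟩
    have hp := hy _ h.2.1
    simp only [List.map_cons, List.map_nil, List.prod_cons, List.prod_nil, mul_one] at hp
    exact eq_inv_of_mul_eq_one_right hp
  let ψ : FreeGroup α →* PresentedGroup S := FreeGroup.lift fun a => y (L.col a)
  have hsymy : ∀ g < L.K, ψ (FreeGroup.mk [L.sym g]) = y g := by
    intro g hg
    have h := hsym g hg
    rcases hb : L.sym g with ⟨a, b⟩
    rw [hb] at h
    cases b
    · rw [if_neg Bool.false_ne_true] at h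
      have hi : FreeGroup.mk [(a, false)] = (FreeGroup.of a)⁻¹ := by
        show _ = (FreeGroup.mk [(a, true)])⁻¹
        rw [FreeGroup.inv_mk]; rfl
      rw [hi, map_inv]
      simp only [ψ, FreeGroup.lift_apply_of]
      rw [← h, (hpair _ (hcol a).1).2]
    · rw [if_pos rfl] at h
      show ψ (FreeGroup.of a) = _
      simp only [ψ, FreeGroup.lift_apply_of, h]
  have hword : ∀ l : List ℕ, (∀ g ∈ l, g < L.K) → ψ (L.word l) = (l.map y).prod := by
    intro l
    induction l with
    | nil => intro _; simp [Letters.word, ← FreeGroup.one_eq_mk]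
    | cons g l ih =>
      intro hl
      rw [List.map_cons, List.prod_cons, ← ih (fun x hx => hl x (List.mem_cons_of_mem _ hx)),
        ← hsymy g (hl g List.mem_cons_self), ← map_mul]
      simp [Letters.word]
  have hinv : ∀ g < L.K, invL L.IV g < L.K ∧
      ψ (FreeGroup.mk [L.sym (invL L.IV g)]) = (ψ (FreeGroup.mk [L.sym g]))⁻¹ := by
    intro g hg
    refine ⟨(hpair g hg).1, ?_⟩
    rw [hsymy _ (hpair g hg).1, hsymy g hg, (hpair g hg).2]
  have hψrels : ∀ r ∈ L.rels, ψ r = 1 := by
    intro r hr
    obtain ⟨l, hl, hlr⟩ := hok.2.2.2.2 r hr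
    obtain ⟨h1, h2⟩ := Letters.word_lettersOf ψ hcol hinv r
    rw [← h1, hlr, hword _ (hlr ▸ h2), hy l hl]
  have hψS : ∀ r ∈ S, ψ r = 1 := by
    intro r hr
    refine M.inj ?_
    rw [map_one]
    exact hS.2 (M.ρ.comp ψ) (fun r hr => by rw [MonoidHom.comp_apply, hψrels r hr, map_one]) r hr
  let ε : PresentedGroup S →* PresentedGroup S := PresentedGroup.toGroup (f := fun a => y (L.col a)) hψS
  have hεphi : ∀ g < L.K, ε (L.phi S g) = y g := by
    intro g hg
    rw [Letters.phi_of_lt hg, ← hsymy g hg]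
    rfl
  have hεval : ∀ w : List ℕ, (∀ g ∈ w, g < L.K) → ε (M.val w) = M.val (substL img w) := by
    intro w hw
    rw [hval, Model.val, hel, map_list_prod, List.map_map]
    congr 1
    exact List.map_congr_left fun g hg => hεphi g (hw g hg)
  have hεinj : Function.Injective ε := by
    rw [← MonoidHom.ker_eq_bot_iff]
    rcases (MonoidHom.normal_ker ε).eq_bot_or_eq_top with h | h
    · exact h
    · exfalso
      have h0 : ε (L.phi S 0) = 1 := by
        rw [← MonoidHom.mem_ker, h]; trivial
      rw [hεphi 0 hK] at h0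
      have : eqW M.T M.bs (img.getD 0 []) [] = true :=
        (M.eqW_iff (himg' 0 hK) (by simp)).2 (h0.trans rfl)
      rw [hne] at this
      exact Bool.noConfusion this
  exact ⟨MulEquiv.ofBijective ε ⟨hεinj, Finite.injective_iff_surjective.1 hεinj⟩,
    fun w hw => ⟨hεval w hw, hsub w hw⟩⟩

/-- The criterion with words in the letters. -/
theorem card_out_two_letters (hS : SameRels L S) (hok : L.OK)
    (hcol : ∀ a, L.col a < L.K ∧ L.sym (L.col a) = (a, true))
    (hsym : ∀ g < L.K, if (L.sym g).2 then L.col (L.sym g).1 = g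
      else invL L.IV (L.col (L.sym g).1) = g)
    [Finite (PresentedGroup S)] [IsSimpleGroup (PresentedGroup S)]
    (M : Model (PresentedGroup S) N) (hE : M.E = L.K) (hel : M.el = L.phi S)
    (img : List (List ℕ)) (himg : allBelow L.K (fun g =>
      (img.getD g []).all (fun k => Nat.blt k L.K)) = true)
    (hrels : L.RL.all (fun l => eqW M.T M.bs (substL img l) []) = true)
    (hne : eqW M.T M.bs (img.getD 0 []) [] = false) (hK : 0 < L.K)
    (wx ws wt : List ℕ) (W : List (List ℕ)) (c : Trip)
    (hW : ([wx, ws, wt] ++ W).all (fun w => w.all fun k => Nat.blt k L.K) = true)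
    (hidx : c.x = L.K ∧ c.s = L.K + 1 ∧ c.t = L.K + 2 ∧ c.ex = L.K + 3 ∧ c.es = L.K + 4 ∧ c.et = L.K + 5)
    (htrip : tripOK (tabW M.T L.K (tripWords img wx ws wt W)) M.bs
      (L.K + (tripWords img wx ws wt W).length) c = true)
    (gen3 : List (List ℕ)) (hgen3 : allBelow L.K (fun g =>
      (gen3.getD g []).all (fun i => Nat.blt i 3) &&
        eqW M.T M.bs [g] (subst wx ws wt (gen3.getD g []))) = true)
    (hp : c.p.Prime) (hp2 : ¬ c.p ^ 2 ∣ Nat.card (PresentedGroup S))
    (hcx : ∀ g : PresentedGroup S, g * M.val wx = M.val wx * g →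
      ∃ u ∈ c.X, g = M.val ((tripWords img wx ws wt W).getD (u - L.K) []) ∧ L.K ≤ u)
    (hcs : ∀ g : PresentedGroup S, g * M.val ws = M.val ws * g →
      ∃ u ∈ c.U, g = M.val ((tripWords img wx ws wt W).getD (u - L.K) []) ∧ L.K ≤ u) :
    Nat.card (Cfsg.Out (PresentedGroup S)) = 2 := by
  classical
  obtain ⟨e, he⟩ := exists_aut L S hS hok hcol hsym M hE hel img himg hrels hne hK
  simp only [List.all_eq_true, List.mem_append, List.mem_cons, List.not_mem_nil, or_false,
    Nat.blt_eq] at hW
  have h1 : ∀ g ∈ wx, g < L.K := hW wx (Or.inl (Or.inl rfl))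
  have h2 : ∀ g ∈ ws, g < L.K := hW ws (Or.inl (Or.inr (Or.inl rfl)))
  have h3 : ∀ g ∈ wt, g < L.K := hW wt (Or.inl (Or.inr (Or.inr rfl)))
  have hwords : ∀ w ∈ tripWords img wx ws wt W, ∀ k ∈ w, k < M.E := by
    intro w hw k hk
    simp only [tripWords, List.mem_append, List.mem_cons, List.not_mem_nil, or_false] at hw
    rcases hw with (rfl | rfl | rfl | rfl | rfl | rfl) | hw
    · rw [hE]; exact h1 k hk
    · rw [hE]; exact h2 k hk
    · rw [hE]; exact h3 k hk
    · exact (he wx h1).2 k hk
    · exact (he ws h2).2 k hk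
    · exact (he wt h3).2 k hk
    · rw [hE]; exact hW w (Or.inr hw) k hk
  let M' := M.extend (tripWords img wx ws wt W) hwords
  have hM : ∀ j, M'.el (L.K + j) = M.val ((tripWords img wx ws wt W).getD j []) := by
    intro j
    show (if L.K + j < M.E then _ else _) = _
    rw [if_neg (by omega), hE, Nat.add_sub_cancel_left]
  have hM' : ∀ u, L.K ≤ u → M'.el u = M.val ((tripWords img wx ws wt W).getD (u - L.K) []) := by
    intro u hu
    obtain ⟨j, rfl⟩ : ∃ j, u = L.K + j := ⟨u - L.K, by omega⟩
    rw [hM, Nat.add_sub_cancel_left]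
  obtain ⟨hx, hs, ht, hex, hes, het⟩ := hidx
  have hT : M'.T = tabW M.T L.K (tripWords img wx ws wt W) := by
    show tabW M.T M.E _ = _
    rw [hE]
  have e1 : M'.el c.x = M.val wx := by rw [hx, ← Nat.add_zero L.K, hM 0]; rfl
  have e2 : M'.el c.s = M.val ws := by rw [hs, hM 1]; rfl
  have e3 : M'.el c.t = M.val wt := by rw [ht, hM 2]; rfl
  refine card_out_two M' c ?_ hp hp2 ?_ ?_ ?_ e ?_ ?_ ?_
  · rw [hT]
    show tripOK _ M.bs (M.E + _) c = true
    rw [hE]; exact htrip
  · rw [eq_top_iff, ← Letters.gen_closure hcol, Subgroup.closure_le]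
    rintro _ ⟨g, hg, rfl⟩
    have h := allBelow_iff.1 hgen3 g hg
    simp only [Bool.and_eq_true, List.all_eq_true, Nat.blt_eq] at h
    have hlt : ∀ k ∈ subst wx ws wt (gen3.getD g []), k < M.E := by
      intro k hk
      rw [subst, List.mem_flatMap] at hk
      obtain ⟨i, hi, hk⟩ := hk
      rw [hE]
      match i, h.1 i hi with
      | 0, _ => exact h1 k hk
      | 1, _ => exact h2 k hk
      | 2, _ => exact h3 k hk
    have heq := M.eq_of_eqW (by simpa [hE] using hg) hlt h.2
    rw [subst_val M wx ws wt _ _ _ rfl rfl rfl _ h.1] at heq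
    have hg' : L.phi S g = M.val [g] := by simp [Model.val, hel]
    rw [hg', heq]
    refine Subgroup.list_prod_mem _ fun z hz => ?_
    obtain ⟨i, hi, rfl⟩ := List.mem_map.1 hz
    apply Subgroup.subset_closure
    match i, h.1 i hi with
    | 0, _ => simp [e1]
    | 1, _ => simp [e2]
    | 2, _ => simp [e3]
  · intro g hg
    rw [e1] at hg
    obtain ⟨u, hu, hgu, hku⟩ := hcx g hg
    exact ⟨u, hu, hgu.trans (hM' u hku).symm⟩
  · intro g hg
    rw [e2] at hg
    obtain ⟨u, hu, hgu, hku⟩ := hcs g hg
    exact ⟨u, hu, hgu.trans (hM' u hku).symm⟩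
  · rw [e1, hex, hM 3, (he wx h1).1]; rfl
  · rw [e2, hes, hM 4, (he ws h2).1]; rfl
  · rw [e3, het, hM 5, (he wt h3).1]; rfl

end Cfsg.Agent.Lib.CosetEnum
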