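import Cfsg.Agent.Lib.CosetEnum.OutPres

/-!
As `OutPres`, with the triple, its centralisers and the images of the generators given by words in the
tabled elements.
-/

set_option autoImplicit false

namespace Cfsg.Agent.Lib.CosetEnum

/-- Tables of elements followed by tables of words in them. -/
noncomputable def tabW (T : ℕ → ℕ → ℕ) (E : ℕ) (W : List (List ℕ)) (k i : ℕ) : ℕ :=
  cond (Nat.blt k E) (T k i) (app T (W.getD (Nat.sub k E) []) i)

/-- Adjoin words to a model. -/
noncomputable def Model.extend {G : Type} [Group G] {N : ℕ} (M : Model G N) (W : List (List ℕ))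
    (hW : ∀ w ∈ W, ∀ k ∈ w, k < M.E) : Model G N where
  ρ := M.ρ
  inj := M.inj
  E := M.E + W.length
  el k := if k < M.E then M.el k else M.val (W.getD (k - M.E) [])
  T := tabW M.T M.E W
  hel k hk i := by
    rcases Nat.lt_or_ge k M.E with h | h
    · have hb : Nat.blt k M.E = true := by rw [Nat.blt_eq]; exact h
      simp only [if_pos h, tabW, hb, cond]
      exact M.hel k h i
    · have hb : Nat.blt k M.E = false := by rw [← Bool.not_eq_true, Nat.blt_eq]; omega
      simp only [if_neg (not_lt.2 h), tabW, hb, cond, Nat.sub_eq]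
      refine M.app_spec _ ?_ i
      rw [List.getD_eq_getElem _ _ (by omega : k - M.E < W.length)]
      exact hW _ (List.getElem_mem _)
  bs := M.bs
  bs_lt := M.bs_lt
  base := M.base

/-- Column `g` of a letter table is the table of a word. -/
noncomputable def colWord (N K : ℕ) (T P : PTree) (g : ℕ) (w : List ℕ) : Bool :=
  allBelow N fun i => Nat.beq (get32 T (Nat.add (Nat.mul i K) g)) (app (tab N P) w i)

/-- The certificate of an outer automorphism group of order two, with words. -/
structure OutCertW where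
  E : ℕ
  /-- the first `E1` elements have their images tabled -/
  E1 : ℕ
  Op : PTree
  P : PTree
  /-- the table of the images of the generators -/
  T' : PTree
  P' : PTree
  img : List (List ℕ)
  /-- a program over the letters `x, s, t` -/
  E3 : ℕ
  Op3 : PTree
  T3 : PTree
  P3 : PTree
  gen3 : List ℕ
  lx : OrbLevel
  lxs : List OrbLevel
  lsh : OrbLevel
  lst : List OrbLevel
  bs : List OrbLevel
  wx : List ℕ
  ws : List ℕ
  wt : List ℕ
  /-- further words -/
  W : List (List ℕ)
  trip : Trip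

/-- All the words. -/
def OutCertW.words (C : OutCertW) : List (List ℕ) :=
  [C.wx, C.ws, C.wt, C.wx.map (C.E + ·), C.ws.map (C.E + ·), C.wt.map (C.E + ·)] ++ C.W

/-- The tables of everything. -/
noncomputable def OutCertW.table (C : OutCertW) (N : ℕ) : ℕ → ℕ → ℕ :=
  tabW (tab2 N C.E C.P C.P') (C.E + C.E1) C.words

variable {α : Type} [DecidableEq α]

theorem card_out_two_presW (L : Letters α) (S : Set (FreeGroup α)) (hS : SameRels L S) (hok : L.OK)
    (hcol : ∀ a, L.col a < L.K ∧ L.sym (L.col a) = (a, true))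
    (hsym : ∀ g < L.K, invL L.IV g = g ∧ (L.sym g).2 = true ∧ L.col (L.sym g).1 = g)
    {N : ℕ} {T : PTree} (ρ : PresentedGroup S →* Equiv.Perm (Fin N))
    (hρ : ∀ g < L.K, ∀ i : Fin N, ((ρ (L.phi S g))⁻¹ i).1 = get32 T (i.1 * L.K + g))
    (hinj : Function.Injective ρ) [IsSimpleGroup (PresentedGroup S)] {order : ℕ}
    (hcard : Nat.card (PresentedGroup S) = order) (hpos : order ≠ 0) (C : OutCertW)
    (hslp : allBelow C.E (slpAt L.K N T C.Op C.P) = true)
    (hE1 : C.E1 ≤ C.E) (hslp' : allBelow C.E1 (slpAt L.K N C.T' C.Op C.P') = true)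
    (himg : allBelow L.K (fun g =>
      (C.img.getD g []).all (fun k => Nat.blt k C.E) && colWord N L.K C.T' C.P g (C.img.getD g [])) = true)
    (hlx : levelsOK C.E N C.P (C.lx :: C.lxs) [] = true ∧ chainSize (C.lx :: C.lxs) = order)
    (hls : levelsOK C.E N C.P (C.lsh :: C.lst) [] = true ∧ chainSize (C.lsh :: C.lst) = order)
    (hbs : levelsOK C.E N C.P C.bs [] = true ∧ chainSize C.bs = order)
    (hrels : L.RL.all (fun l =>
      eqW (tab N C.P) (C.bs.map OrbLevel.base) (l.flatMap fun g => C.img.getD g []) []) = true)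
    (hne : eqW (tab N C.P) (C.bs.map OrbLevel.base) (C.img.getD 0 []) [] = false) (hK : 0 < L.K)
    (htrip : tripOK (C.table N) (C.bs.map OrbLevel.base) (C.E + C.E1 + C.words.length) C.trip = true)
    (hlt : C.wx.all (fun k => Nat.blt k C.E1) = true ∧ C.ws.all (fun k => Nat.blt k C.E1) = true ∧
      C.wt.all (fun k => Nat.blt k C.E1) = true ∧
      C.W.all (fun w => w.all (fun k => Nat.blt k (C.E + C.E1))) = true ∧
      C.trip.x = C.E + C.E1 ∧ C.trip.s = C.E + C.E1 + 1 ∧ C.trip.t = C.E + C.E1 + 2 ∧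
      C.trip.ex = C.E + C.E1 + 3 ∧ C.trip.es = C.E + C.E1 + 4 ∧ C.trip.et = C.E + C.E1 + 5)
    (hcx : cycBase (C.table N) C.trip.x (C.lx :: C.lxs) = true ∧
      allBelow N (centAt N C.P (C.table N) C.trip.x (C.lx :: C.lxs) C.trip.X) = true)
    (hcs : cycBase (C.table N) C.trip.s (C.lsh :: C.lst) = true ∧
      allBelow N (centAt N C.P (C.table N) C.trip.s (C.lsh :: C.lst) C.trip.U) = true)
    (hslp3 : allBelow C.E3 (slpAt 3 N C.T3 C.Op3 C.P3) = true)
    (hT3 : colWord N 3 C.T3 C.P 0 C.wx = true ∧ colWord N 3 C.T3 C.P 1 C.ws = true ∧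
      colWord N 3 C.T3 C.P 2 C.wt = true)
    (hgen3 : allBelow L.K (fun g =>
      Nat.blt (C.gen3.getD g 0) C.E3 && colIs N L.K T C.P3 g (C.gen3.getD g 0)) = true)
    (hp : C.trip.p.Prime) (hp2 : ¬ C.trip.p ^ 2 ∣ order) :
    Nat.card (Cfsg.Out (PresentedGroup S)) = 2 := by
  classical
  haveI : Finite (PresentedGroup S) := Nat.finite_of_card_ne_zero (hcard ▸ hpos)
  have hP := slp_sound ρ (L.phi S) hρ hslp
  have hfix : Nat.card (fixList ρ []) ≤ order := by
    refine (Nat.card_le_card_of_injective (fun σ : fixList ρ [] => (⟨σ.1, σ.2.1⟩ : ρ.range))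
      fun a b hab => Subtype.ext (congrArg (fun z : ρ.range => z.1) hab)).trans ?_
    rw [← hcard]
    exact Nat.card_le_card_of_surjective ρ.rangeRestrict ρ.rangeRestrict_surjective
  have htb := tight_of_levels ρ hP C.bs [] hbs.1 (hbs.2 ▸ hfix)
  have hbase : ∀ g : PresentedGroup S,
      (∀ b : Fin N, b.1 ∈ C.bs.map OrbLevel.base → (ρ g)⁻¹ b = b) → g = 1 := by
    intro g hg
    refine hinj ?_
    rw [map_one, ← inv_eq_one]
    exact Tight.eq_one ρ htb _ ⟨⟨g⁻¹, map_inv _ _⟩, by simp⟩ fun l hl b hb =>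
      hg b (List.mem_map.2 ⟨l, hl, hb.symm⟩)
  have hbslt : ∀ b ∈ C.bs.map OrbLevel.base, b < N := by
    intro b hb
    obtain ⟨l, hl, rfl⟩ := List.mem_map.1 hb
    exact levels_base hbs.1 l hl
  choose el₀ hel₀ using hP
  let e₀ : ℕ → PresentedGroup S := fun k => if hk : k < C.E then el₀ k hk else 1
  let M₀ : Model (PresentedGroup S) N :=
    { ρ := ρ, inj := hinj, E := C.E, el := e₀, T := tab N C.P,
      hel := fun k hk i => by simp only [e₀, dif_pos hk]; exact hel₀ k hk i,
      bs := C.bs.map OrbLevel.base, bs_lt := hbslt, base := hbase }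
  -- the endomorphism
  let y : ℕ → PresentedGroup S := fun g => M₀.val (C.img.getD g [])
  have himg' : ∀ g < L.K, (∀ k ∈ C.img.getD g [], k < M₀.E) ∧
      ∀ i < N, get32 C.T' (i * L.K + g) = app (tab N C.P) (C.img.getD g []) i := by
    intro g hg
    have h := allBelow_iff.1 himg g hg
    simp only [colWord, Bool.and_eq_true, allBelow_iff, List.all_eq_true, Nat.blt_eq, Nat.beq_eq,
      Nat.add_eq, Nat.mul_eq] at h
    exact h
  have hy : ∀ l ∈ L.RL, (l.map y).prod = 1 := by
    intro l hl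
    have h := List.all_eq_true.1 hrels l hl
    have hlt' : ∀ k ∈ l.flatMap (fun g => C.img.getD g []), k < M₀.E := by
      intro k hk
      obtain ⟨g, hg, hkg⟩ := List.mem_flatMap.1 hk
      exact (himg' g ((hok.2.2.2.1 l hl).1 g hg)).1 k hkg
    have h' := M₀.eq_of_eqW hlt' (by simp) h
    have hval : ∀ m : List ℕ, M₀.val (m.flatMap fun g => C.img.getD g []) = (m.map y).prod := by
      intro m
      induction m with
      | nil => rfl
      | cons g m ih =>
        rw [List.map_cons, List.prod_cons, ← ih, List.flatMap_cons]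
        simp only [Model.val, List.map_append, List.prod_append, y]
    rw [hval] at h'
    exact h'.trans rfl
  let ψ : FreeGroup α →* PresentedGroup S := FreeGroup.lift fun a => y (L.col a)
  have hsymy : ∀ g < L.K, ψ (FreeGroup.mk [L.sym g]) = y g := by
    intro g hg
    obtain ⟨-, h2, h3⟩ := hsym g hg
    rw [show L.sym g = ((L.sym g).1, true) from Prod.ext rfl h2,
      show FreeGroup.mk [((L.sym g).1, true)] = FreeGroup.of (L.sym g).1 from rfl]
    simp only [ψ, FreeGroup.lift_apply_of, h3]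
  have hword : ∀ l : List ℕ, (∀ g ∈ l, g < L.K) → ψ (L.word l) = (l.map y).prod := by
    intro l
    induction l with
    | nil => intro _; simp [Letters.word, ← FreeGroup.one_eq_mk]
    | cons g l ih =>
      intro hl
      rw [List.map_cons, List.prod_cons, ← ih (fun x hx => hl x (List.mem_cons_of_mem _ hx)),
        ← hsymy g (hl g List.mem_cons_self), ← map_mul]
      simp [Letters.word]
  have hinv : ∀ g < L.K, invL L.IV g < L.K ∧
      ψ (FreeGroup.mk [L.sym (invL L.IV g)]) = (ψ (FreeGroup.mk [L.sym g]))⁻¹ := by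
    intro g hg
    have h := hok.2.2.1 g hg
    refine ⟨h.1, ?_⟩
    have hp' := hy _ h.2.1
    rw [(hsym g hg).1] at hp' ⊢
    rw [hsymy g hg]
    simp only [List.map_cons, List.map_nil, List.prod_cons, List.prod_nil, mul_one] at hp'
    exact eq_inv_of_mul_eq_one_left hp'
  have hψrels : ∀ r ∈ L.rels, ψ r = 1 := by
    intro r hr
    obtain ⟨l, hl, hlr⟩ := hok.2.2.2.2 r hr
    obtain ⟨h1, h2⟩ := Letters.word_lettersOf ψ hcol hinv r
    rw [← h1, hlr, hword _ (hlr ▸ h2), hy l hl]
  have hψS : ∀ r ∈ S, ψ r = 1 := by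
    intro r hr
    refine hinj ?_
    rw [map_one]
    exact hS.2 (ρ.comp ψ) (fun r hr => by rw [MonoidHom.comp_apply, hψrels r hr, map_one]) r hr
  let ε : PresentedGroup S →* PresentedGroup S := PresentedGroup.toGroup (f := fun a => y (L.col a)) hψS
  have hεphi : ∀ g < L.K, ε (L.phi S g) = y g := by
    intro g hg
    obtain ⟨-, h2, h3⟩ := hsym g hg
    rw [Letters.phi_of_lt hg, show L.sym g = ((L.sym g).1, true) from Prod.ext rfl h2]
    exact (PresentedGroup.toGroup.of hψS).trans (by rw [h3])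
  have hρε : ∀ g < L.K, ∀ i : Fin N, ((ρ (ε (L.phi S g)))⁻¹ i).1 = get32 C.T' (i.1 * L.K + g) := by
    intro g hg i
    rw [hεphi g hg, (himg' g hg).2 i.1 i.2]
    exact M₀.app_spec _ (himg' g hg).1 i
  have hεinj : Function.Injective ε := by
    rw [← MonoidHom.ker_eq_bot_iff]
    rcases (MonoidHom.normal_ker ε).eq_bot_or_eq_top with h | h
    · exact h
    · exfalso
      have h0 : ε (L.phi S 0) = 1 := by
        rw [← MonoidHom.mem_ker, h]; trivial
      rw [hεphi 0 hK] at h0
      have : eqW M₀.T M₀.bs (C.img.getD 0 []) [] = true :=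
        (M₀.eqW_iff (himg' 0 hK).1 (by simp)).2 (h0.trans rfl)
      rw [hne] at this
      exact Bool.noConfusion this
  let e : MulAut (PresentedGroup S) :=
    MulEquiv.ofBijective ε ⟨hεinj, Finite.injective_iff_surjective.1 hεinj⟩
  -- elements with their images
  have hslp₁ : allBelow C.E1 (slpAt L.K N T C.Op C.P) = true :=
    allBelow_iff.2 fun k hk => allBelow_iff.1 hslp k (lt_of_lt_of_le hk hE1)
  have hboth : ∀ k < C.E, ∃ x : PresentedGroup S,
      (∀ i : Fin N, ((ρ x)⁻¹ i).1 = get32 C.P (k * N + i.1)) ∧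
      (k < C.E1 → ∀ i : Fin N, ((ρ (ε x))⁻¹ i).1 = get32 C.P' (k * N + i.1)) := by
    intro k hk
    rcases Nat.lt_or_ge k C.E1 with h | h
    · obtain ⟨x, h1, h2⟩ := slp_sound_pair ρ ε (L.phi S) hρ hρε hslp₁ hslp' k h
      exact ⟨x, h1, fun _ => h2⟩
    · exact ⟨el₀ k hk, hel₀ k hk, fun h' => absurd h' (by omega)⟩
  choose el₁ hel₁ hel₁' using hboth
  let e₁ : ℕ → PresentedGroup S := fun k => if hk : k < C.E then el₁ k hk else 1
  let e₂ : ℕ → PresentedGroup S := fun k => if k < C.E then e₁ k else ε (e₁ (k - C.E))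
  let M₂ : Model (PresentedGroup S) N :=
    { ρ := ρ, inj := hinj, E := C.E + C.E1, el := e₂, T := tab2 N C.E C.P C.P',
      hel := fun k hk i => by
        rcases Nat.lt_or_ge k C.E with h | h
        · have hb : Nat.blt k C.E = true := by rw [Nat.blt_eq]; exact h
          simp only [e₂, e₁, if_pos h, dif_pos h, tab2, hb, cond]
          exact hel₁ k h i
        · have h₁ : k - C.E < C.E1 := by omega
          have h' : k - C.E < C.E := by omega
          have hb : Nat.blt k C.E = false := by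
            rw [← Bool.not_eq_true, Nat.blt_eq]; omega
          simp only [e₂, e₁, if_neg (not_lt.2 h), dif_pos h', tab2, hb, cond]
          exact hel₁' _ h' h₁ i
      bs := C.bs.map OrbLevel.base, bs_lt := hbslt, base := hbase }
  simp only [List.all_eq_true, Nat.blt_eq] at hlt
  obtain ⟨hwx, hws, hwt, hWW, hx, hs, ht, hex, hes, het⟩ := hlt
  have hwords : ∀ w ∈ C.words, ∀ k ∈ w, k < M₂.E := by
    intro w hw k hk
    show k < C.E + C.E1
    simp only [OutCertW.words, List.mem_append, List.mem_cons, List.not_mem_nil, or_false] at hw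
    rcases hw with (rfl | rfl | rfl | rfl | rfl | rfl) | hw
    · have := hwx k hk; omega
    · have := hws k hk; omega
    · have := hwt k hk; omega
    · obtain ⟨j, hj, rfl⟩ := List.mem_map.1 hk; have := hwx j hj; omega
    · obtain ⟨j, hj, rfl⟩ := List.mem_map.1 hk; have := hws j hj; omega
    · obtain ⟨j, hj, rfl⟩ := List.mem_map.1 hk; have := hwt j hj; omega
    · exact hWW w hw k hk
  let M : Model (PresentedGroup S) N := M₂.extend C.words hwords
  have hlow : ∀ k < C.E, M₂.el k = e₁ k ∧ M₂.el (C.E + k) = ε (e₁ k) := fun k hk =>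
    ⟨if_pos hk, by
      show e₂ (C.E + k) = _
      simp only [e₂, if_neg (show ¬ C.E + k < C.E by omega), Nat.add_sub_cancel_left]⟩
  have hval : ∀ w : List ℕ, (∀ k ∈ w, k < C.E1) → M₂.val (w.map (C.E + ·)) = ε (M₂.val w) := by
    intro w
    induction w with
    | nil => intro _; exact (map_one ε).symm
    | cons k w ih =>
      intro hw
      have hk : k < C.E := lt_of_lt_of_le (hw k List.mem_cons_self) hE1
      simp only [Model.val, List.map_cons, List.prod_cons, map_mul] at ih ⊢
      rw [ih fun a ha => hw a (List.mem_cons_of_mem _ ha), (hlow k hk).1, (hlow k hk).2]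
  have hM : ∀ j w, C.words.getD j [] = w → M.el (C.E + C.E1 + j) = M₂.val w := by
    intro j w hw
    show (if C.E + C.E1 + j < C.E + C.E1 then _ else _) = _
    rw [if_neg (by omega), show C.E + C.E1 + j - (C.E + C.E1) = j by omega, hw]
  have hT3' : ∀ w : List ℕ, (∀ k ∈ w, k < C.E1) → ∀ i : Fin N,
      ((ρ (M₂.val w))⁻¹ i).1 = app (tab N C.P) w i.1 := by
    intro w hw i
    refine (M₂.app_spec w (fun k hk => by show k < C.E + C.E1; have := hw k hk; omega) i).trans ?_
    clear hval hwx hws hwt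
    induction w generalizing i with
    | nil => rfl
    | cons k w ih =>
      have hb : Nat.blt k C.E = true := by
        rw [Nat.blt_eq]; have := hw k List.mem_cons_self; omega
      have hp0 := M₂.hel k (by show k < C.E + C.E1; have := hw k List.mem_cons_self; omega) i
      simp only [app, force_eq]
      show app (tab2 N C.E C.P C.P') w (tab2 N C.E C.P C.P' k i.1) = _
      simp only [tab2, hb, cond]
      have hi : tab N C.P k i.1 < N := by
        have h2 : M₂.T k i.1 = tab N C.P k i.1 := by simp only [M₂, tab2, hb, cond]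
        rw [← h2, ← hp0]
        exact Fin.isLt _
      exact ih (fun a ha => hw a (List.mem_cons_of_mem _ ha)) ⟨_, hi⟩
  have hPM : ∀ k < C.E, ∃ x : PresentedGroup S, ∀ i : Fin N,
      ((M.ρ x)⁻¹ i).1 = get32 C.P (k * N + i.1) := fun k hk => ⟨el₁ k hk, hel₁ k hk⟩
  have hUX : (∀ u ∈ C.trip.X, u < M.E) ∧ ∀ u ∈ C.trip.U, u < M.E := by
    have h := htrip
    simp only [tripOK, Bool.and_eq_true, List.all_eq_true, List.mem_append, Nat.blt_eq] at h
    have h' := h.1.1.1.1.1.1.1.1.1.1.1.1.1
    exact ⟨fun u hu => h' u (Or.inl (Or.inr hu)), fun u hu => h' u (Or.inr hu)⟩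
  have hwlen : 6 ≤ C.words.length := by simp [OutCertW.words]
  refine card_out_two M C.trip htrip hp (hcard ▸ hp2) ?_ ?_ ?_ e ?_ ?_ ?_
  · -- generation
    set H := Subgroup.closure ({M.el C.trip.x, M.el C.trip.s, M.el C.trip.t} : Set (PresentedGroup S))
    let φ3 : ℕ → H := fun j =>
      if j = 0 then ⟨M.el C.trip.x, Subgroup.subset_closure (by simp)⟩
      else if j = 1 then ⟨M.el C.trip.s, Subgroup.subset_closure (by simp)⟩
      else ⟨M.el C.trip.t, Subgroup.subset_closure (by simp)⟩
    have hρ3 : ∀ j < 3, ∀ i : Fin N,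
        (((ρ.comp H.subtype) (φ3 j))⁻¹ i).1 = get32 C.T3 (i.1 * 3 + j) := by
      have hcols : ∀ j w, colWord N 3 C.T3 C.P j w = true → (∀ k ∈ w, k < C.E1) → ∀ i : Fin N,
          ((ρ (M₂.val w))⁻¹ i).1 = get32 C.T3 (i.1 * 3 + j) := by
        intro j w h hw i
        have h' := allBelow_iff.1 h i.1 i.2
        simp only [Nat.beq_eq, Nat.add_eq, Nat.mul_eq] at h'
        rw [h']
        exact hT3' w hw i
      intro j hj i
      match j, hj with
      | 0, _ =>
        show ((ρ (M.el C.trip.x))⁻¹ i).1 = _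
        rw [hx, ← Nat.add_zero (C.E + C.E1), hM 0 C.wx rfl]
        exact hcols 0 _ hT3.1 hwx i
      | 1, _ =>
        show ((ρ (M.el C.trip.s))⁻¹ i).1 = _
        rw [hs, hM 1 C.ws rfl]
        exact hcols 1 _ hT3.2.1 hws i
      | 2, _ =>
        show ((ρ (M.el C.trip.t))⁻¹ i).1 = _
        rw [ht, hM 2 C.wt rfl]
        exact hcols 2 _ hT3.2.2 hwt i
    rw [eq_top_iff, ← Letters.gen_closure hcol, Subgroup.closure_le]
    rintro _ ⟨g, hg, rfl⟩
    have h := allBelow_iff.1 hgen3 g hg
    simp only [colIs, Bool.and_eq_true, Nat.blt_eq, allBelow_iff, Nat.beq_eq, Nat.add_eq, Nat.mul_eq,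
      tab] at h
    obtain ⟨z, hz⟩ := slp_sound (ρ.comp H.subtype) φ3 hρ3 hslp3 _ h.1
    have : L.phi S g = z.1 := by
      refine hinj (inv_injective (Equiv.ext fun i => Fin.ext ?_))
      rw [hρ g hg, h.2 i.1 i.2]
      exact (hz i).symm
    rw [this]
    exact z.2
  · exact M.cent hPM C.lx C.lxs hlx.1 (tight_of_levels ρ hPM _ [] hlx.1 (hlx.2 ▸ hfix))
      (by show _ < C.E + C.E1 + C.words.length; omega) _ hUX.1 hcx.1 hcx.2
  · exact M.cent hPM C.lsh C.lst hls.1 (tight_of_levels ρ hPM _ [] hls.1 (hls.2 ▸ hfix))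
      (by show _ < C.E + C.E1 + C.words.length; omega) _ hUX.2 hcs.1 hcs.2
  · rw [hex, hx, ← Nat.add_zero (C.E + C.E1), hM 0 C.wx rfl, Nat.add_zero, hM 3 _ rfl]
    exact (hval _ hwx).symm
  · rw [hes, hs, hM 1 C.ws rfl, hM 4 _ rfl]
    exact (hval _ hws).symm
  · rw [het, ht, hM 2 C.wt rfl, hM 5 _ rfl]
    exact (hval _ hwt).symm

end Cfsg.Agent.Lib.CosetEnum
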