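import Cfsg.Agent.Lib.CosetEnum.Index
import Cfsg.Prelude.Def_SporCoxeter

/-!
Glue between presented groups given by a Coxeter graph and coset tables.
-/

set_option autoImplicit false

namespace Cfsg.Agent.Lib.CosetEnum

/-- Pairs `(x, y)` with `x` not later than `y` in the list. -/
def pairsLE {α : Type*} : List α → List (α × α)
  | [] => []
  | x :: l => ((x :: l).map fun y => (x, y)) ++ pairsLE l

theorem mem_pairsLE {α : Type*} : ∀ {l : List α} {x y : α}, x ∈ l → y ∈ l →
    (x, y) ∈ pairsLE l ∨ (y, x) ∈ pairsLE l := by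
  intro l
  induction l with
  | nil => intro x y hx; simp at hx
  | cons a l ih =>
    intro x y hx hy
    rw [pairsLE]
    rcases List.mem_cons.1 hx with rfl | hx'
    · exact Or.inl (List.mem_append_left _ (List.mem_map.2 ⟨y, hy, rfl⟩))
    · rcases List.mem_cons.1 hy with rfl | hy'
      · exact Or.inr (List.mem_append_left _
          (List.mem_map.2 ⟨x, List.mem_cons_of_mem _ hx', rfl⟩))
      · rcases ih hx' hy' with h | h
        · exact Or.inl (List.mem_append_right _ h)
        · exact Or.inr (List.mem_append_right _ h)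

open Cfsg.Spor

variable {α : Type*} [DecidableEq α]

/-- A finite list of relators sufficient for `coxRelators edges` and the further relators. -/
def relList (nodes : List α) (edges : List (α × ℕ × α)) (extra : List (FreeGroup α)) :
    List (FreeGroup α) :=
  ((pairsLE nodes).map fun p =>
    (FreeGroup.of p.1 * FreeGroup.of p.2) ^ coxLabel edges p.1 p.2) ++ extra

theorem coxLabel_comm (edges : List (α × ℕ × α)) (x y : α) :
    coxLabel edges x y = coxLabel edges y x := by
  unfold coxLabel
  by_cases h : x = y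
  · subst h; rfl
  · rw [if_neg h, if_neg (Ne.symm h)]
    congr 1
    apply congrArg (fun p => List.find? p edges)
    funext e
    simp only [or_comm]

theorem lift_rels_of_list {M : Type*} [Group M] {nodes : List α} {edges : List (α × ℕ × α)}
    {extra : List (FreeGroup α)} (hnodes : ∀ x ∈ coxNodes edges, x ∈ nodes) (ψ : FreeGroup α →* M)
    (h : ∀ r ∈ relList nodes edges extra, ψ r = 1) :
    ∀ r ∈ coxRelators edges ∪ {r | r ∈ extra}, ψ r = 1 := by
  rintro r (⟨x, hx, y, hy, rfl⟩ | hr)
  · rcases mem_pairsLE (hnodes x hx) (hnodes y hy) with hm | hm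
    · exact h _ (List.mem_append_left _ (List.mem_map.2 ⟨_, hm, rfl⟩))
    · have h' := h _ (List.mem_append_left _ (List.mem_map.2 ⟨_, hm, rfl⟩))
      rw [map_pow, map_mul] at h' ⊢
      rw [coxLabel_comm]
      have : ψ (FreeGroup.of x) * ψ (FreeGroup.of y) =
          (ψ (FreeGroup.of y))⁻¹ * (ψ (FreeGroup.of y) * ψ (FreeGroup.of x)) *
            ((ψ (FreeGroup.of y))⁻¹)⁻¹ := by group
      rw [this, conj_pow, h']
      simp
  · exact h _ (List.mem_append_right _ hr)

/-- How table letters denote generators. -/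
structure Letters (α : Type*) [DecidableEq α] where
  K : ℕ
  IV : ℕ
  sym : ℕ → α × Bool
  col : α → ℕ
  /-- letter words; as free group elements, each is trivial or a listed relator -/
  RL : List (List ℕ)
  rels : List (FreeGroup α)

namespace Letters

variable (L : Letters α)

/-- The free group element of a letter list. -/
def word (l : List ℕ) : FreeGroup α := FreeGroup.mk (l.map L.sym)

/-- The letter of a free group letter. -/
noncomputable def letter (p : α × Bool) : ℕ := if p.2 then L.col p.1 else invL L.IV (L.col p.1)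

/-- The letters of a free group element (for involutory letters, inverses are identified). -/
noncomputable def lettersOf (r : FreeGroup α) : List ℕ := r.toWord.map L.letter

/-- Everything that has to be checked about the letters. -/
def OK : Prop :=
  L.K < 32 ∧ invL L.IV L.K = L.K ∧
  (∀ g < L.K, invL L.IV g < L.K ∧ [g, invL L.IV g] ∈ L.RL ∧
    (L.word [g, invL L.IV g] = 1 ∨ L.word [g, invL L.IV g] ∈ L.rels)) ∧
  (∀ l ∈ L.RL, (∀ g ∈ l, g < L.K) ∧ (L.word l = 1 ∨ L.word l ∈ L.rels ∨ ∃ r ∈ L.rels, L.lettersOf r = l)) ∧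
  (∀ r ∈ L.rels, ∃ l ∈ L.RL, L.lettersOf r = l)

variable {S : Set (FreeGroup α)}

/-- Interpretation of letters in the presented group (`K` is the empty word). -/
def phi (S : Set (FreeGroup α)) (g : ℕ) : PresentedGroup S :=
  if g = L.K then 1 else PresentedGroup.mk S (FreeGroup.mk [L.sym g])

variable {L}

theorem phi_of_lt {g : ℕ} (hg : g < L.K) :
    L.phi S g = PresentedGroup.mk S (FreeGroup.mk [L.sym g]) := if_neg (by omega)

theorem prod_phi (l : List ℕ) (hl : ∀ g ∈ l, g < L.K) :
    (l.map (L.phi S)).prod = PresentedGroup.mk S (L.word l) := by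
  induction l with
  | nil => simp [word, ← FreeGroup.one_eq_mk]
  | cons g l ih =>
    rw [List.map_cons, List.prod_cons, ih fun x hx => hl x (List.mem_cons_of_mem _ hx),
      phi_of_lt (hl g List.mem_cons_self), ← map_mul]
    simp [word]

theorem word_lettersOf {M : Type*} [Group M] (ψ : FreeGroup α →* M)
    (hcol : ∀ a, L.col a < L.K ∧ L.sym (L.col a) = (a, true))
    (hinv : ∀ g < L.K, invL L.IV g < L.K ∧
      ψ (FreeGroup.mk [L.sym (invL L.IV g)]) = (ψ (FreeGroup.mk [L.sym g]))⁻¹) (r : FreeGroup α) :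
    ψ (L.word (L.lettersOf r)) = ψ r ∧ ∀ g ∈ L.lettersOf r, g < L.K := by
  conv => arg 1; rhs; rw [← FreeGroup.mk_toWord (x := r)]
  unfold lettersOf
  induction r.toWord with
  | nil => simp [word]
  | cons p w ih =>
    obtain ⟨a, b⟩ := p
    have hmk : ∀ (q : α × Bool) (u : List (α × Bool)),
        FreeGroup.mk (q :: u) = FreeGroup.mk [q] * FreeGroup.mk u := fun q u => by simp
    constructor
    · rw [List.map_cons, word, List.map_cons, hmk, map_mul, ← word, ih.1, hmk (a, b), map_mul]
      congr 1
      cases b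
      · simp only [letter, if_neg Bool.false_ne_true]
        rw [(hinv _ (hcol a).1).2, (hcol a).2, ← map_inv]
        simp [FreeGroup.inv_mk, FreeGroup.invRev]
      · simp only [letter, if_pos, (hcol a).2]
    · intro g hg
      rcases List.mem_cons.1 hg with rfl | hg
      · cases b
        · simpa [letter] using (hinv _ (hcol a).1).1
        · simpa [letter] using (hcol a).1
      · exact ih.2 g hg

variable (hS : ∀ r ∈ L.rels, r ∈ S) (hok : L.OK)
include hS hok

theorem phi_inv {g : ℕ} (hg : g ≤ L.K) :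
    invL L.IV g ≤ L.K ∧ L.phi S (invL L.IV g) = (L.phi S g)⁻¹ := by
  rcases eq_or_lt_of_le hg with rfl | hg
  · rw [hok.2.1]; exact ⟨le_rfl, by simp [phi]⟩
  · obtain ⟨h1, -, h3⟩ := hok.2.2.1 g hg
    refine ⟨h1.le, ?_⟩
    have hp : ([g, invL L.IV g].map (L.phi S)).prod = 1 := by
      rw [prod_phi _ (by intro x hx; simp only [List.mem_cons, List.not_mem_nil, or_false] at hx; omega)]
      rcases h3 with h | h
      · rw [h, map_one]
      · exact PresentedGroup.one_of_mem (hS _ h)
    simp only [List.map_cons, List.map_nil, List.prod_cons, List.prod_nil, mul_one] at hp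
    exact eq_inv_of_mul_eq_one_right hp

variable (hcol : ∀ a, L.col a < L.K ∧ L.sym (L.col a) = (a, true))
include hcol

theorem prod_rel {l : List ℕ} (hl : l ∈ L.RL) : (l.map (L.phi S)).prod = 1 := by
  obtain ⟨hlt, h⟩ := hok.2.2.2.1 l hl
  rw [prod_phi l hlt]
  rcases h with h | h | ⟨r, hr, rfl⟩
  · rw [h, map_one]
  · exact PresentedGroup.one_of_mem (hS _ h)
  · rw [(word_lettersOf _ hcol (fun g hg => ⟨(hok.2.2.1 g hg).1, by
      have := (phi_inv hS hok hg.le).2
      rwa [phi_of_lt (hok.2.2.1 g hg).1, phi_of_lt hg] at this⟩) r).1]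
    exact PresentedGroup.one_of_mem (hS _ hr)

/-- Packed words of relators and subgroup generators make a valid data set. -/
theorem valid {d : Data} (hdK : d.K = L.K) (hdI : d.IV = L.IV) (HL : List (List ℕ))
    (hHL : ∀ l ∈ HL, ∀ g ∈ l, g < L.K) (hnR : d.nR = L.RL.length) (hnW : d.nW = L.RL.length + HL.length)
    (hW : ∀ i < d.nW, getWord d.W i = pack ((L.RL ++ HL).getD i [])) :
    Valid d (L.phi S) (Subgroup.closure {x | ∃ l ∈ HL, (l.map (L.phi S)).prod = x}) := by
  have h32 := hok.1
  refine ⟨by omega, by simp [phi, hdK], fun g hg => by rw [hdI, hdK]; exact phi_inv hS hok (hdK ▸ hg), ?_, ?_⟩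
  · intro w hw
    rw [hnR] at hw
    rw [hW w (by omega), List.getD_append _ _ _ _ hw, List.getD_eq_getElem _ _ hw, ev_pack]
    · exact prod_rel hS hok hcol (List.getElem_mem hw)
    · intro g hg
      have := (hok.2.2.2.1 _ (List.getElem_mem hw)).1 g hg
      omega
  · intro w hw
    rcases lt_or_ge w L.RL.length with hlt | hge
    · rw [hW w hw, List.getD_append _ _ _ _ hlt, List.getD_eq_getElem _ _ hlt, ev_pack]
      · rw [prod_rel hS hok hcol (List.getElem_mem hlt)]; exact Subgroup.one_mem _
      · intro g hg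
        have := (hok.2.2.2.1 _ (List.getElem_mem hlt)).1 g hg
        omega
    · have hlt' : w - L.RL.length < HL.length := by omega
      rw [hW w hw, List.getD_append_right _ _ _ _ hge, List.getD_eq_getElem _ _ hlt', ev_pack]
      · exact Subgroup.subset_closure ⟨_, List.getElem_mem hlt', rfl⟩
      · intro g hg
        have := hHL _ (List.getElem_mem hlt') g hg
        omega

omit hS hok in
theorem phi_col (a : α) :
    L.phi S (L.col a) = PresentedGroup.of a := by
  rw [phi_of_lt (hcol a).1, (hcol a).2]; rfl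

omit hS hok in
theorem gen_closure :
    Subgroup.closure {x | ∃ g < L.K, L.phi S g = x} = ⊤ := by
  rw [eq_top_iff, ← PresentedGroup.closure_range_of S]
  exact Subgroup.closure_mono fun x ⟨a, ha⟩ => ⟨L.col a, (hcol a).1, by rw [phi_col hcol, ha]⟩

end Letters

/-! ### The action on a checked table -/

/-- The permutation `i ↦ T i (inv g)` as a self-map of `Fin N`. -/
noncomputable def tablePerm (K IV N : ℕ) (T : PTree) (hp : permOK K IV N T = true)
    (hinvol : ∀ g < K, invL IV (invL IV g) = g) (g : ℕ) (hg : g < K) : Equiv.Perm (Fin N) where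
  toFun i := ⟨get32 T (i.1 * K + invL IV g), by
    have h := allBelow_iff.1 hp i.1 i.2
    simp only [permAt, force_eq] at h
    have h' := allBelow_iff.1 h g hg
    simp only [force_eq, Bool.and_eq_true, Nat.blt_eq] at h'
    have h'' := allBelow_iff.1 h _ h'.1.2
    simp only [force_eq, Bool.and_eq_true, Nat.blt_eq] at h''
    exact h''.1.1⟩
  invFun i := ⟨get32 T (i.1 * K + g), by
    have h := allBelow_iff.1 hp i.1 i.2
    simp only [permAt, force_eq] at h
    have h' := allBelow_iff.1 h g hg
    simp only [force_eq, Bool.and_eq_true, Nat.blt_eq] at h'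
    exact h'.1.1⟩
  left_inv i := by
    apply Fin.ext
    have h := allBelow_iff.1 hp i.1 i.2
    simp only [permAt, force_eq] at h
    have h' := allBelow_iff.1 h g hg
    simp only [force_eq, Bool.and_eq_true, Nat.blt_eq] at h'
    have h'' := allBelow_iff.1 h _ h'.1.2
    simp only [force_eq, Bool.and_eq_true, Nat.beq_eq, hinvol g hg] at h''
    simpa using h''.2
  right_inv i := by
    apply Fin.ext
    have h := allBelow_iff.1 hp i.1 i.2
    simp only [permAt, force_eq] at h
    have h' := allBelow_iff.1 h g hg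
    simp only [force_eq, Bool.and_eq_true, Nat.beq_eq] at h'
    simpa using h'.2

/-- A table on which all relator words act trivially. -/
structure TableOK (L : Letters α) (N : ℕ) (T : PTree) : Prop where
  col : ∀ a, L.col a < L.K ∧ L.sym (L.col a) = (a, true)
  symcol : ∀ g < L.K, (L.col (L.sym g).1 = g ∧ (L.sym g).2 = true) ∨
    (L.col (L.sym g).1 = invL L.IV g ∧ (L.sym g).2 = false)
  invol : ∀ g < L.K, invL L.IV (invL L.IV g) = g
  perm : permOK L.K L.IV N T = true
  rel : ∀ l ∈ L.RL, ∀ i < N, scan L.K T l i = i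

variable {L : Letters α} {N : ℕ} {T : PTree}

/-- The permutation of a generator. -/
noncomputable def TableOK.genPerm (h : TableOK L N T) (a : α) : Equiv.Perm (Fin N) :=
  tablePerm L.K L.IV N T h.perm h.invol (L.col a) (h.col a).1

theorem TableOK.lift_sym (h : TableOK L N T) {g : ℕ} (hg : g < L.K) :
    FreeGroup.lift h.genPerm (FreeGroup.mk [L.sym g]) = tablePerm L.K L.IV N T h.perm h.invol g hg := by
  have hI : ∀ g' (hg' : g' < L.K), g' = g →
      tablePerm L.K L.IV N T h.perm h.invol g' hg' = tablePerm L.K L.IV N T h.perm h.invol g hg := by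
    rintro g' hg' rfl; rfl
  rcases h.symcol g hg with ⟨h1, h2⟩ | ⟨h1, h2⟩
  · have : L.sym g = ((L.sym g).1, true) := by rw [← h2]
    rw [this]
    change FreeGroup.lift h.genPerm (FreeGroup.of _) = _
    rw [FreeGroup.lift_apply_of]
    exact hI _ _ h1
  · have : FreeGroup.mk [L.sym g] = (FreeGroup.of (L.sym g).1)⁻¹ := by
      rw [show L.sym g = ((L.sym g).1, false) by rw [← h2]]
      rfl
    rw [this, map_inv, FreeGroup.lift_apply_of]
    apply Equiv.ext
    intro i
    apply Fin.ext
    change get32 T (i.1 * L.K + L.col (L.sym g).1) = get32 T (i.1 * L.K + invL L.IV g)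
    rw [h1]

theorem TableOK.scan_lift (h : TableOK L N T) (l : List ℕ) (hl : ∀ g ∈ l, g < L.K) (i : Fin N) :
    ((FreeGroup.lift h.genPerm (L.word l))⁻¹ i).1 = scan L.K T l i.1 := by
  induction l generalizing i with
  | nil => simp [Letters.word, ← FreeGroup.one_eq_mk, scan]
  | cons g l ih =>
    have hw : L.word (g :: l) = FreeGroup.mk [L.sym g] * L.word l := by simp [Letters.word]
    rw [hw, map_mul, mul_inv_rev, Equiv.Perm.mul_apply,
      ih fun x hx => hl x (List.mem_cons_of_mem _ hx), h.lift_sym (hl g List.mem_cons_self)]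
    change scan L.K T l (get32 T (i.1 * L.K + g)) =
      force (get32 T (Nat.add (Nat.mul i.1 L.K) g)) (scan L.K T l)
    rw [force_eq]
    rfl

theorem TableOK.lift_rel (h : TableOK L N T) (hok : L.OK) {r : FreeGroup α} (hr : r ∈ L.rels) :
    FreeGroup.lift h.genPerm r = 1 := by
  obtain ⟨l, hl, hlr⟩ := hok.2.2.2.2 r hr
  have hinv : ∀ g < L.K, invL L.IV g < L.K ∧ FreeGroup.lift h.genPerm (FreeGroup.mk [L.sym (invL L.IV g)]) =
      (FreeGroup.lift h.genPerm (FreeGroup.mk [L.sym g]))⁻¹ := by
    intro g hg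
    have h1 := (hok.2.2.1 g hg).1
    refine ⟨h1, ?_⟩
    rw [h.lift_sym h1, h.lift_sym hg]
    apply Equiv.ext
    intro i
    apply Fin.ext
    change get32 T (i.1 * L.K + invL L.IV (invL L.IV g)) = get32 T (i.1 * L.K + g)
    rw [h.invol g hg]
  rw [← (Letters.word_lettersOf _ h.col hinv r).1, hlr, ← inv_eq_one]
  apply Equiv.ext
  intro i
  apply Fin.ext
  rw [h.scan_lift l (hok.2.2.2.1 l hl).1, h.rel l hl i.1 i.2]
  rfl

theorem relsOK_rel {K N : ℕ} {T : PTree} {ls : List (List ℕ)} (h : relsOK K N T ls = true)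
    {i : ℕ} (h2 : i < N) {l : List ℕ} (hl : l ∈ ls) : scan K T l i = i := by
  have h' := allBelow_iff.1 h i h2
  unfold relAt at h'
  clear h
  induction ls with
  | nil => simp at hl
  | cons b bs ih =>
    simp only [Bool.and_eq_true, Nat.beq_eq] at h'
    rcases List.mem_cons.1 hl with rfl | hl
    · exact h'.1
    · exact ih hl h'.2

/-- Reachability from `0`: `P i` lists a smaller point `j` and a letter `g` with `T j g = i`. -/
noncomputable def reachOK (K N : ℕ) (T P : PTree) : Bool :=
  allBelow N fun i => Bool.rec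
    (force (get32 P (Nat.mul i 2)) fun j => force (get32 P (Nat.add (Nat.mul i 2) 1)) fun g =>
      Nat.blt j i && Nat.blt g K && Nat.beq (get32 T (Nat.add (Nat.mul j K) g)) i)
    true (Nat.beq i 0)

theorem transitive_of_reach {G : Type*} [Group G] (ρ : G →* Equiv.Perm (Fin N)) (K : ℕ) {P : PTree}
    (φ : ℕ → G) (hN : 0 < N) (hρ : ∀ g < K, ∀ i : Fin N, ((ρ (φ g))⁻¹ i).1 = get32 T (i.1 * K + g))
    (hP : reachOK K N T P = true) (x : Fin N) : ∃ g : G, ρ g ⟨0, hN⟩ = x := by
  obtain ⟨x, hx⟩ := x
  induction x using Nat.strong_induction_on with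
  | _ x ih =>
    rcases eq_or_ne x 0 with rfl | hne
    · exact ⟨1, by simp⟩
    have h := allBelow_iff.1 hP x hx
    rw [show Nat.beq x 0 = false by rw [← Bool.not_eq_true, Nat.beq_eq]; exact hne] at h
    simp only [force_eq, Bool.and_eq_true, Nat.blt_eq, Nat.beq_eq, Nat.add_eq, Nat.mul_eq] at h
    obtain ⟨⟨hj, hg⟩, ht⟩ := h
    obtain ⟨y, hy⟩ := ih _ hj (by omega)
    refine ⟨(φ (get32 P (x * 2 + 1)))⁻¹ * y, ?_⟩
    apply Fin.ext
    rw [map_mul, map_inv, Equiv.Perm.mul_apply, hy, hρ _ hg]
    exact ht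

end Cfsg.Agent.Lib.CosetEnum
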