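import Mathlib

/-!
Kernel-cheap data structures and boolean checkers for coset enumeration certificates.

Cosets/vertices are natural numbers.  A fact `(u, g, v)` says `H·R u·φ g = H·R v`.
All checkers are meant to be evaluated by `decide +kernel`, so they only use recursors and
accelerated `Nat` operations.
-/

set_option autoImplicit false

namespace Cfsg.Agent.Lib.CosetEnum

/-- A static search tree of packed words. In `node m l r` the indices below `m` are on the left. -/
inductive PTree where
  | leaf (n : ℕ)
  | node (m : ℕ) (l r : PTree)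

noncomputable def PTree.lookup {α : Type} (f : ℕ → ℕ → α) (t : PTree) : ℕ → α :=
  PTree.rec (motive := fun _ => ℕ → α) (fun n i => f n i)
    (fun m _ _ gl gr i => Bool.rec (gr i) (gl i) (Nat.ble (Nat.succ i) m)) t

/-- Evaluate the argument to a literal before continuing. -/
noncomputable def force {α : Type} (n : ℕ) (k : ℕ → α) : α :=
  Nat.rec (k 0) (fun m _ => k (Nat.succ m)) n

@[simp] theorem force_eq {α : Type} (n : ℕ) (k : ℕ → α) : force n k = k n := by
  cases n <;> rfl

noncomputable def f32 (n i : ℕ) : ℕ :=
  Nat.mod (Nat.shiftRight n (Nat.mul 32 (Nat.land i 1023))) 4294967296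

noncomputable def f96 (n i : ℕ) : ℕ :=
  Nat.mod (Nat.shiftRight n (Nat.mul 96 (Nat.land i 511))) 79228162514264337593543950336

noncomputable def get32 (t : PTree) (i : ℕ) : ℕ := t.lookup f32 i

noncomputable def getWord (t : PTree) (i : ℕ) : ℕ := t.lookup (fun n _ => n) i

/-- `allBelow n p`: `p i` for every `i < n`. -/
noncomputable def allBelow (n : ℕ) (p : ℕ → Bool) : Bool :=
  Nat.rec true (fun i ih => p i && ih) n

theorem allBelow_iff {n : ℕ} {p : ℕ → Bool} : allBelow n p = true ↔ ∀ i < n, p i = true := by
  induction n with
  | zero => simp [allBelow]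
  | succ n ih =>
    show (p n && allBelow n p) = true ↔ _
    rw [Bool.and_eq_true, ih]
    constructor
    · rintro ⟨h, h'⟩ i hi
      rcases Nat.lt_succ_iff_lt_or_eq.1 hi with hi | rfl
      · exact h' i hi
      · exact h
    · intro h
      exact ⟨h n (Nat.lt_succ_self n), fun i hi => h i (Nat.lt_succ_of_lt hi)⟩

/-- `allFrom a n p`: `p i` for every `a ≤ i < a + n`. -/
noncomputable def allFrom (a n : ℕ) (p : ℕ → Bool) : Bool :=
  allBelow n fun i => force (Nat.add a i) p

theorem allFrom_iff {a n : ℕ} {p : ℕ → Bool} :
    allFrom a n p = true ↔ ∀ i, a ≤ i → i < a + n → p i = true := by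
  rw [allFrom, allBelow_iff]
  simp only [force_eq, Nat.add_eq]
  constructor
  · intro h i h1 h2
    have := h (i - a) (by omega)
    rwa [Nat.add_sub_cancel' h1] at this
  · intro h i hi
    exact h _ (by omega) (by omega)

/-- The static data of a certificate for the upper bound on an index. -/
structure Data where
  /-- number of letters; the letter `K` is the empty word -/
  K : ℕ
  /-- five-bit fields: inverse letters -/
  IV : ℕ
  /-- facts, 96-bit fields -/
  F : PTree
  /-- packed words -/
  W : PTree
  /-- words `< nR` are trivial in the group, words `< nW` lie in the subgroup -/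
  nR : ℕ
  nW : ℕ

noncomputable def Data.fact (d : Data) (k : ℕ) : ℕ := d.F.lookup f96 k

noncomputable def fu (x : ℕ) : ℕ := Nat.mod x 4294967296
noncomputable def fv (x : ℕ) : ℕ := Nat.mod (Nat.shiftRight x 32) 4294967296
noncomputable def fg (x : ℕ) : ℕ := Nat.shiftRight x 64

noncomputable def invL (IV g : ℕ) : ℕ := Nat.mod (Nat.shiftRight IV (Nat.mul 5 g)) 32

/-- append a letter -/
noncomputable def push (K acc g : ℕ) : ℕ :=
  Bool.rec (Nat.add (Nat.mul acc 32) g) acc (Nat.beq g K)

/-- Follow `n` signed fact references (all `< k`) read from the stream `S`. -/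
noncomputable def walk (d : Data) (k n : ℕ) : ℕ → ℕ → ℕ → (ℕ → ℕ → ℕ → Bool) → Bool :=
  Nat.rec (motive := fun _ => ℕ → ℕ → ℕ → (ℕ → ℕ → ℕ → Bool) → Bool)
    (fun cur acc S cont => cont cur acc S)
    (fun _ ih cur acc S cont =>
      force (Nat.mod S 4294967296) fun r =>
      force (Nat.shiftRight S 32) fun S' =>
      force (Nat.shiftRight r 1) fun id =>
      Nat.blt id k && force (d.fact id) fun x =>
      force (fu x) fun u => force (fv x) fun v => force (fg x) fun g =>
      Nat.ble g d.K &&
      Bool.rec
        (Nat.beq v cur && force (push d.K acc (invL d.IV g)) fun acc' => ih u acc' S' cont)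
        (Nat.beq u cur && force (push d.K acc g) fun acc' => ih v acc' S' cont)
        (Nat.beq (Nat.mod r 2) 0)) n

/-- Check the justification of fact `k` read from `S`. -/
noncomputable def step (d : Data) (k S : ℕ) (cont : ℕ → Bool) : Bool :=
  force (Nat.mod S 4294967296) fun s =>
  force (Nat.mod (Nat.shiftRight S 32) 4294967296) fun w =>
  force (Nat.mod (Nat.shiftRight S 64) 4294967296) fun al =>
  force (Nat.mod (Nat.shiftRight S 96) 4294967296) fun bl =>
  force (Nat.shiftRight S 128) fun S1 =>
  force (d.fact k) fun x =>
  force (fu x) fun u => force (fv x) fun v => force (fg x) fun g =>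
  Nat.ble g d.K &&
  walk d k al s 1 S1 fun c a S2 =>
    Nat.beq c u && force (push d.K a g) fun a' =>
    walk d k bl v a' S2 fun c' a'' S3 =>
      Nat.beq c' s && Nat.beq a'' (getWord d.W w) &&
        (Nat.blt w d.nR || (Nat.blt w d.nW && Nat.beq s 0)) && cont S3

/-- Check `n` consecutive justifications starting with fact `k`. -/
noncomputable def steps (d : Data) (n : ℕ) : ℕ → ℕ → Bool :=
  Nat.rec (motive := fun _ => ℕ → ℕ → Bool) (fun _ _ => true)
    (fun _ ih k S => step d k S fun S' => force (Nat.add k 1) fun k' => ih k' S') n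

/-- Check a list of chunks of justifications. -/
noncomputable def chunks (d : Data) (l : List (ℕ × ℕ)) : ℕ → Bool :=
  List.rec (motive := fun _ => ℕ → Bool) (fun _ => true)
    (fun c _ ih k => steps d c.1 k c.2 && force (Nat.add k c.1) fun k' => ih k') l

noncomputable def chunksLen (l : List (ℕ × ℕ)) : ℕ :=
  List.rec (motive := fun _ => ℕ) 0 (fun c _ ih => c.1 + ih) l

/-- The definition facts: fact `k` defines vertex `k + 1`. -/
noncomputable def defsOK (d : Data) (D : ℕ) : Bool :=
  allBelow D fun k =>
    force (d.fact k) fun x => Nat.blt (fu x) (Nat.succ k) && Nat.beq (fv x) (Nat.succ k) && Nat.blt (fg x) d.K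

/-- The edges at coset `i` are covered by facts: `T` table, `V` representatives, `E` signed references. -/
noncomputable def edgeAt (d : Data) (M N : ℕ) (T V E : PTree) (i : ℕ) : Bool :=
    force (Nat.mul i d.K) fun b =>
    force (get32 V i) fun vi =>
    allBelow d.K fun g =>
      force (Nat.add b g) fun j =>
      force (get32 E j) fun r =>
      force (Nat.shiftRight r 1) fun id =>
      force (d.fact id) fun x =>
      force (get32 T j) fun t =>
      Nat.blt id M && Nat.blt t N &&
      Bool.rec
        (Nat.beq (fv x) vi && Nat.beq (invL d.IV (fg x)) g && Nat.beq (fu x) (get32 V t))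
        (Nat.beq (fu x) vi && Nat.beq (fg x) g && Nat.beq (fv x) (get32 V t))
        (Nat.beq (Nat.mod r 2) 0)

/-- Every edge of the final table is covered by a fact. -/
noncomputable def edgesOK (d : Data) (M N : ℕ) (T V E : PTree) : Bool :=
  allBelow N (edgeAt d M N T V E)

/-- Scan a word through a coset table. -/
noncomputable def scan (K : ℕ) (T : PTree) (l : List ℕ) : ℕ → ℕ :=
  List.rec (motive := fun _ => ℕ → ℕ) (fun i => i)
    (fun g _ ih i => force (get32 T (Nat.add (Nat.mul i K) g)) ih) l

/-- The columns are mutually inverse at coset `i`. -/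
noncomputable def permAt (K IV N : ℕ) (T : PTree) (i : ℕ) : Bool :=
    force (Nat.mul i K) fun b =>
    allBelow K fun g =>
      force (get32 T (Nat.add b g)) fun t =>
      Nat.blt t N && Nat.blt (invL IV g) K &&
        Nat.beq (get32 T (Nat.add (Nat.mul t K) (invL IV g))) i

/-- The table consists of mutually inverse columns. -/
noncomputable def permOK (K IV N : ℕ) (T : PTree) : Bool :=
  allBelow N (permAt K IV N T)

/-- The words fix point `i`. -/
noncomputable def relAt (K : ℕ) (T : PTree) (ls : List (List ℕ)) (i : ℕ) : Bool :=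
  List.rec (motive := fun _ => Bool) true (fun l _ ih => Nat.beq (scan K T l i) i && ih) ls

/-- The words act trivially. -/
noncomputable def relsOK (K N : ℕ) (T : PTree) (ls : List (List ℕ)) : Bool :=
  allBelow N (relAt K T ls)

/-- Glue a checked range onto a checked initial segment. -/
theorem allBelow_add {a n m : ℕ} {p : ℕ → Bool} (h : allBelow a p = true) (h' : allFrom a n p = true)
    (hm : a + n = m) : allBelow m p = true := by
  rw [allBelow_iff] at h ⊢
  rw [allFrom_iff] at h'
  intro i hi
  rcases lt_or_ge i a with h1 | h1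
  · exact h i h1
  · exact h' i h1 (by omega)

end Cfsg.Agent.Lib.CosetEnum
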