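import Cfsg.Agent.Lib.CosetEnum.Prim

/-!
Soundness of the upper-bound certificate: if all checks pass, the subgroup has index at most `N`,
and the cosets are the ones of the listed representatives.
-/

set_option autoImplicit false

namespace Cfsg.Agent.Lib.CosetEnum

variable {G : Type*} [Group G]

/-- Evaluate a packed word (base 32 with a leading 1). -/
noncomputable def ev (φ : ℕ → G) (n : ℕ) : G :=
  if n ≤ 1 then 1 else ev φ (n / 32) * φ (n % 32)
termination_by n
decreasing_by omega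

def pack (l : List ℕ) : ℕ := l.foldl (fun a g => a * 32 + g) 1

theorem ev_push (φ : ℕ → G) {a g : ℕ} (ha : 1 ≤ a) (hg : g < 32) :
    ev φ (a * 32 + g) = ev φ a * φ g := by
  rw [ev, if_neg (by omega)]
  have h1 : (a * 32 + g) / 32 = a := by omega
  have h2 : (a * 32 + g) % 32 = g := by omega
  rw [h1, h2]

theorem pack_foldl_pos (l : List ℕ) {a : ℕ} (ha : 1 ≤ a) :
    1 ≤ l.foldl (fun a g => a * 32 + g) a := by
  induction l generalizing a with
  | nil => simpa
  | cons g l ih =>
    rw [List.foldl_cons]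
    exact ih (a := a * 32 + g) (by omega)

theorem ev_foldl (φ : ℕ → G) (l : List ℕ) (hl : ∀ g ∈ l, g < 32) {a : ℕ} (ha : 1 ≤ a) :
    ev φ (l.foldl (fun a g => a * 32 + g) a) = ev φ a * (l.map φ).prod := by
  induction l generalizing a with
  | nil => simp
  | cons g l ih =>
    rw [List.foldl_cons, ih (fun x hx => hl x (List.mem_cons_of_mem _ hx)) (by omega),
      ev_push φ ha (hl g List.mem_cons_self), List.map_cons, List.prod_cons, mul_assoc]

theorem ev_pack (φ : ℕ → G) (l : List ℕ) (hl : ∀ g ∈ l, g < 32) :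
    ev φ (pack l) = (l.map φ).prod := by
  rw [pack, ev_foldl φ l hl le_rfl, ev, if_pos le_rfl, one_mul]

/-- Coset representatives given by the definition facts. -/
noncomputable def rep (d : Data) (D : ℕ) (φ : ℕ → G) (v : ℕ) : G :=
  if 0 < v ∧ v ≤ D ∧ fu (d.fact (v - 1)) < v then
    rep d D φ (fu (d.fact (v - 1))) * φ (fg (d.fact (v - 1)))
  else 1
termination_by v
decreasing_by omega

theorem rep_zero (d : Data) (D : ℕ) (φ : ℕ → G) : rep d D φ 0 = 1 := by
  rw [rep, if_neg (by omega)]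

/-- The hypotheses on the interpretation of letters and words. -/
structure Valid (d : Data) (φ : ℕ → G) (H : Subgroup G) : Prop where
  hK : d.K < 32
  one : φ d.K = 1
  inv : ∀ g ≤ d.K, invL d.IV g ≤ d.K ∧ φ (invL d.IV g) = (φ g)⁻¹
  rel : ∀ w < d.nR, ev φ (getWord d.W w) = 1
  sub : ∀ w < d.nW, ev φ (getWord d.W w) ∈ H

/-- Meaning of fact `k`. -/
def Good (d : Data) (D : ℕ) (φ : ℕ → G) (H : Subgroup G) (k : ℕ) : Prop :=
  fg (d.fact k) ≤ d.K ∧
    rep d D φ (fu (d.fact k)) * φ (fg (d.fact k)) * (rep d D φ (fv (d.fact k)))⁻¹ ∈ H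

variable {d : Data} {D : ℕ} {φ : ℕ → G} {H : Subgroup G}

theorem good_defs (hD : defsOK d D = true) {k : ℕ} (hk : k < D) : Good d D φ H k := by
  have h := allBelow_iff.1 hD k hk
  simp only [force_eq, Bool.and_eq_true, Nat.blt_eq, Nat.beq_eq] at h
  obtain ⟨⟨h1, h2⟩, h3⟩ := h
  refine ⟨h3.le, ?_⟩
  conv =>
    arg 2
    arg 2
    rw [h2, rep, if_pos ⟨k.succ_pos, hk, by simpa using h1⟩]
  simp only [Nat.succ_sub_one, mul_inv_cancel, H.one_mem]

theorem push_spec (hV : Valid d φ H) {a g : ℕ} (ha : 1 ≤ a) (hg : g ≤ d.K) :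
    1 ≤ push d.K a g ∧ ev φ (push d.K a g) = ev φ a * φ g := by
  rcases eq_or_lt_of_le hg with rfl | hlt
  · have : Nat.beq d.K d.K = true := by simp
    simp [push, hV.one, ha]
  · have : Nat.beq g d.K = false := by
      rw [← Bool.not_eq_true, Nat.beq_eq]; omega
    have := hV.hK
    simp only [push, ‹Nat.beq g d.K = false›, Nat.add_eq, Nat.mul_eq]
    exact ⟨by omega, ev_push φ ha (by omega)⟩

theorem walk_succ (d : Data) (k n cur acc S : ℕ) (cont : ℕ → ℕ → ℕ → Bool) :
    walk d k (n + 1) cur acc S cont =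
      (force (Nat.mod S 4294967296) fun r =>
      force (Nat.shiftRight S 32) fun S' =>
      force (Nat.shiftRight r 1) fun id =>
      Nat.blt id k && force (d.fact id) fun x =>
      force (fu x) fun u => force (fv x) fun v => force (fg x) fun g =>
      Nat.ble g d.K &&
      Bool.rec
        (Nat.beq v cur && force (push d.K acc (invL d.IV g)) fun acc' => walk d k n u acc' S' cont)
        (Nat.beq u cur && force (push d.K acc g) fun acc' => walk d k n v acc' S' cont)
        (Nat.beq (Nat.mod r 2) 0)) := rfl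

theorem walk_sound (hV : Valid d φ H) {k : ℕ} (hgood : ∀ i < k, Good d D φ H i) (n : ℕ) :
    ∀ cur acc S cont, walk d k n cur acc S cont = true → ∀ X : G, 1 ≤ acc →
      X * ev φ acc * (rep d D φ cur)⁻¹ ∈ H →
      ∃ c a S', cont c a S' = true ∧ 1 ≤ a ∧ X * ev φ a * (rep d D φ c)⁻¹ ∈ H := by
  induction n with
  | zero =>
    intro cur acc S cont h s ha hs
    exact ⟨cur, acc, S, h, ha, hs⟩
  | succ n ih =>
    intro cur acc S cont h s ha hs
    simp only [walk_succ, force_eq, Bool.and_eq_true, Nat.blt_eq, Nat.ble_eq] at h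
    obtain ⟨hid, hgK, h⟩ := h
    obtain ⟨-, hf⟩ := hgood _ hid
    generalize d.fact (Nat.shiftRight (Nat.mod S 4294967296) 1) = x at *
    cases hr : Nat.beq (Nat.mod (Nat.mod S 4294967296) 2) 0
    · rw [hr] at h
      simp only [Bool.and_eq_true, Nat.beq_eq] at h
      obtain ⟨hv, h⟩ := h
      obtain ⟨hiK, hinv⟩ := hV.inv _ hgK
      obtain ⟨h1, h2⟩ := push_spec hV ha hiK
      refine ih _ _ _ cont h s h1 ?_
      rw [h2, hinv]
      rw [← hv] at hs
      have := H.mul_mem hs (H.inv_mem hf)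
      convert this using 1
      group
    · rw [hr] at h
      simp only [Bool.and_eq_true, Nat.beq_eq] at h
      obtain ⟨hu, h⟩ := h
      obtain ⟨h1, h2⟩ := push_spec hV ha hgK
      refine ih _ _ _ cont h s h1 ?_
      rw [h2]
      rw [← hu] at hs
      have := H.mul_mem hs hf
      convert this using 1
      group

theorem step_sound (hV : Valid d φ H) {k S : ℕ} {cont : ℕ → Bool}
    (hgood : ∀ i < k, Good d D φ H i) (h : step d k S cont = true) :
    Good d D φ H k ∧ ∃ S', cont S' = true := by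
  simp only [step, force_eq, Bool.and_eq_true, Nat.ble_eq] at h
  obtain ⟨hg, h⟩ := h
  generalize hs' : Nat.mod S 4294967296 = s at h
  generalize hw' : Nat.mod (Nat.shiftRight S 32) 4294967296 = w at h
  have h0 : rep d D φ s * ev φ 1 * (rep d D φ s)⁻¹ ∈ H := by
    rw [ev, if_pos le_rfl, mul_one, mul_inv_cancel]; exact H.one_mem
  obtain ⟨c, a, S2, h, ha, hA⟩ := walk_sound hV hgood _ _ _ _ _ h (rep d D φ s) le_rfl h0
  simp only [Bool.and_eq_true, Nat.beq_eq] at h
  obtain ⟨hc, h⟩ := h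
  subst hc
  obtain ⟨h1, h2⟩ := push_spec hV ha hg
  set x := d.fact k with hx
  -- start the second walk at the vertex itself
  have hB0 : rep d D φ (fv x) * (ev φ (push d.K a (fg x)))⁻¹ * ev φ (push d.K a (fg x)) *
      (rep d D φ (fv x))⁻¹ ∈ H := by
    have : rep d D φ (fv x) * (ev φ (push d.K a (fg x)))⁻¹ * ev φ (push d.K a (fg x)) *
      (rep d D φ (fv x))⁻¹ = 1 := by group
    rw [this]; exact H.one_mem
  -- second walk, with the invariant shifted by a constant factor
  obtain ⟨c', a'', S3, h, -, hC⟩ := walk_sound hV hgood _ _ _ _ _ h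
    (rep d D φ (fv x) * (ev φ (push d.K a (fg x)))⁻¹) h1 hB0
  simp only [Bool.and_eq_true, Bool.or_eq_true, Nat.beq_eq, Nat.blt_eq] at h
  obtain ⟨⟨⟨hc', ha''⟩, hw⟩, hcont⟩ := h
  subst hc'
  refine ⟨⟨hg, ?_⟩, S3, hcont⟩
  rw [← hx]
  have hW : rep d D φ c' * ev φ a'' * (rep d D φ c')⁻¹ ∈ H := by
    rw [ha'']
    rcases hw with hw | ⟨hw, hs0⟩
    · rw [hV.rel w hw, mul_one, mul_inv_cancel]; exact H.one_mem
    · rw [hs0, rep_zero]; simpa using hV.sub w hw
  -- R u φg (R v)⁻¹
  have := H.mul_mem (H.mul_mem (H.inv_mem hA) hW) (H.inv_mem hC)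
  convert this using 1
  rw [h2]
  group

end Cfsg.Agent.Lib.CosetEnum
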