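import Cfsg.Agent.Lib.CosetEnum.Chain

/-!
A word is trivial when a checked deduction path from the base coset spells it, and enumerations
on sub-alphabets may then use it as an extra relation.
-/

set_option autoImplicit false

namespace Cfsg.Agent.Lib.CosetEnum

variable {α : Type} [DecidableEq α] (L : Letters α) (S : Set (FreeGroup α))

/-- Signed facts leading from the base vertex back to itself spell a word lying in the subgroup;
with the trivial subgroup the word is trivial. -/
theorem prod_eq_one_of_walk (hS : ∀ r ∈ L.rels, r ∈ S) (hok : L.OK)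
    (hcol : ∀ a, L.col a < L.K ∧ L.sym (L.col a) = (a, true))
    (d : Data) (D M : ℕ) (hdK : d.K = L.K) (hdI : d.IV = L.IV) (hnR : d.nR = L.RL.length)
    (hnW : d.nW = L.RL.length) (hW : ∀ i < d.nW, getWord d.W i = pack (L.RL.getD i []))
    (hgood : ∀ (φ : ℕ → PresentedGroup S) (H : Subgroup (PresentedGroup S)), Valid d φ H →
      ∀ i < M, Good d D φ H i)
    (wl : List ℕ) (hwl : ∀ g ∈ wl, g < L.K) (n path : ℕ)
    (h : (walk d M n 0 1 path fun c a _ => Nat.beq c 0 && Nat.beq a (pack wl)) = true) :
    (wl.map (L.phi S)).prod = 1 := by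
  have hV := Letters.valid (d := d) hS hok hcol hdK hdI [] (by simp) hnR (by simpa using hnW)
    (fun i hi => by rw [List.append_nil]; exact hW i hi)
  have h32 := hok.1
  obtain ⟨c, a, _, h', _, hm⟩ := walk_sound hV (hgood _ _ hV) n 0 1 path _ h 1 le_rfl (by
    rw [ev, if_pos le_rfl, rep_zero]; simp)
  simp only [Bool.and_eq_true, Nat.beq_eq] at h'
  obtain ⟨rfl, rfl⟩ := h'
  rw [rep_zero, ev_pack _ _ (fun g hg => by have := hwl g hg; omega), one_mul, inv_one, mul_one] at hm
  simpa using hm

/-- The subgroup generated by the letters `emb` has at most `N` times as many elements as the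
subgroup generated by the words `HL` in them, when an enumeration on the sub-alphabet, with any relations known to hold, closes. -/
theorem card_le_of_enum_of_trivial (hS : ∀ r ∈ L.rels, r ∈ S) (hok : L.OK)
        (emb : List ℕ) (d : Data) (D M N : ℕ) (T V E : PTree) (hN : 0 < N)
    (hK : d.K = emb.length) (hK32 : d.K < 32) (hemb : ∀ g ∈ emb, g < L.K)
    (hinv : invL d.IV d.K = d.K ∧
      ∀ g < d.K, invL d.IV g < d.K ∧ emb.getD (invL d.IV g) 0 = invL L.IV (emb.getD g 0))
    (RL HL : List (List ℕ)) (hRL : ∀ l ∈ RL, (∀ g ∈ l, g < d.K) ∧ ((embWord emb l).map (L.phi S)).prod = 1)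
    (hHL : ∀ l ∈ HL, ∀ g ∈ l, g < d.K) (hnR : d.nR = RL.length) (hnW : d.nW = RL.length + HL.length)
    (hW : ∀ i < d.nW, getWord d.W i = pack ((RL ++ HL).getD i []))
    (hgood : ∀ (φ : ℕ → PresentedGroup S) (H : Subgroup (PresentedGroup S)), Valid d φ H →
      ∀ i < M, Good d D φ H i)
    (hV0 : get32 V 0 = 0) (hE : edgesOK d M N T V E = true) (B : ℕ)
    (hB : Nat.card (subOf L S (HL.map (embWord emb))) ≠ 0 ∧
      Nat.card (subOf L S (HL.map (embWord emb))) ≤ B) :
    Nat.card (subOf L S (emb.map fun g => [g])) ≠ 0 ∧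
      Nat.card (subOf L S (emb.map fun g => [g])) ≤ N * B := by
  classical
  let φ : ℕ → PresentedGroup S := fun g => if g = d.K then 1 else L.phi S (emb.getD g 0)
  have hlt : ∀ g < d.K, emb.getD g 0 < L.K := by
    intro g hg
    rw [List.getD_eq_getElem _ _ (by omega)]
    exact hemb _ (List.getElem_mem _)
  have hφ : ∀ g < d.K, φ g = L.phi S (emb.getD g 0) := fun g hg => if_neg (by omega)
  have hprod : ∀ l : List ℕ, (∀ g ∈ l, g < d.K) →
      (l.map φ).prod = ((embWord emb l).map (L.phi S)).prod := by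
    intro l hl
    rw [embWord, List.map_map]
    congr 1
    exact List.map_congr_left fun g hg => hφ g (hl g hg)
  set H := subOf L S (HL.map (embWord emb)) with hH
  have hV : Valid d φ H := by
    refine ⟨hK32, if_pos rfl, fun g hg => ?_, ?_, ?_⟩
    · rcases eq_or_lt_of_le hg with rfl | hg
      · rw [hinv.1]; exact ⟨le_rfl, by simp [φ]⟩
      · obtain ⟨h1, h2⟩ := hinv.2 g hg
        refine ⟨h1.le, ?_⟩
        rw [hφ _ h1, hφ _ hg, h2]
        exact (Letters.phi_inv hS hok (hlt g hg).le).2
    · intro w hw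
      rw [hnR] at hw
      rw [hW w (by omega), List.getD_append _ _ _ _ hw, List.getD_eq_getElem _ _ hw, ev_pack _ _
        (fun g hg => by have := (hRL _ (List.getElem_mem hw)).1 g hg; omega),
        hprod _ (hRL _ (List.getElem_mem hw)).1]
      exact (hRL _ (List.getElem_mem hw)).2
    · intro w hw
      rcases lt_or_ge w RL.length with h1 | h1
      · rw [hW w hw, List.getD_append _ _ _ _ h1, List.getD_eq_getElem _ _ h1, ev_pack _ _
          (fun g hg => by have := (hRL _ (List.getElem_mem h1)).1 g hg; omega),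
          hprod _ (hRL _ (List.getElem_mem h1)).1,
          (hRL _ (List.getElem_mem h1)).2]
        exact Subgroup.one_mem _
      · have h2 : w - RL.length < HL.length := by omega
        rw [hW w hw, List.getD_append_right _ _ _ _ h1, List.getD_eq_getElem _ _ h2, ev_pack _ _
          (fun g hg => by have := hHL _ (List.getElem_mem h2) g hg; omega),
          hprod _ (hHL _ (List.getElem_mem h2))]
        exact Subgroup.subset_closure ⟨_, List.mem_map.2 ⟨_, List.getElem_mem h2, rfl⟩, rfl⟩
  set J := subOf L S (emb.map fun g => [g]) with hJ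
  have hJle : J ≤ Subgroup.closure {x | ∃ g < d.K, φ g = x} := by
    rw [hJ, subOf, Subgroup.closure_le]
    rintro _ ⟨l, hl, rfl⟩
    obtain ⟨g, hg, rfl⟩ := List.mem_map.1 hl
    obtain ⟨i, hi, rfl⟩ := List.mem_iff_getElem.1 hg
    refine Subgroup.subset_closure ⟨i, by omega, ?_⟩
    rw [hφ i (by omega), List.getD_eq_getElem _ _ hi]
    simp
  have hcov : ∀ x ∈ J, ∃ p : Fin N × H, (p.2 : PresentedGroup S) * rep d D φ (get32 V p.1.1) = x := by
    intro x hx
    obtain ⟨i, hi, hm⟩ := rep_covers hV hE (hgood φ H hV) hN hV0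
      (fun g hg => ⟨invL d.IV g, (hinv.2 g hg).1, (hV.inv g hg.le).2⟩) x (hJle hx)
    exact ⟨⟨⟨i, hi⟩, ⟨_, hm⟩⟩, by simp⟩
  have hHfin : Finite H := Nat.finite_of_card_ne_zero hB.1
  set f : Fin N × H → PresentedGroup S :=
    fun p => (p.2 : PresentedGroup S) * rep d D φ (get32 V p.1.1) with hf
  have hsub : (J : Set (PresentedGroup S)) ⊆ Set.range f := fun x hx => hcov x hx
  have hfin : (J : Set (PresentedGroup S)).Finite := (Set.finite_range f).subset hsub
  haveI : Finite J := hfin.to_subtype
  refine ⟨Nat.card_pos.ne', ?_⟩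
  calc Nat.card J ≤ Nat.card (Set.range f) := Nat.card_mono (Set.finite_range f) hsub
    _ ≤ Nat.card (Fin N × H) := Finite.card_range_le f
    _ ≤ N * B := by rw [Nat.card_prod, Nat.card_fin]; exact Nat.mul_le_mul_left _ hB.2

end Cfsg.Agent.Lib.CosetEnum
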