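import Cfsg.Agent.Lib.CosetEnum.Word

/-!
A word lies in a subgroup given by words when a checked deduction path spells it.
-/

set_option autoImplicit false

namespace Cfsg.Agent.Lib.CosetEnum

variable {α : Type} [DecidableEq α] (L : Letters α) (S : Set (FreeGroup α))

/-- Signed facts leading from the base vertex back to itself spell a word lying in the subgroup;
stated for any subgroup. -/
theorem mem_of_walk (hS : ∀ r ∈ L.rels, r ∈ S) (hok : L.OK)
    (hcol : ∀ a, L.col a < L.K ∧ L.sym (L.col a) = (a, true))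
    (HL : List (List ℕ)) (hHL : ∀ l ∈ HL, ∀ g ∈ l, g < L.K) (d : Data) (D M : ℕ) (hdK : d.K = L.K) (hdI : d.IV = L.IV) (hnR : d.nR = L.RL.length)
    (hnW : d.nW = L.RL.length + HL.length) (hW : ∀ i < d.nW, getWord d.W i = pack ((L.RL ++ HL).getD i []))
    (hgood : ∀ (φ : ℕ → PresentedGroup S) (H : Subgroup (PresentedGroup S)), Valid d φ H →
      ∀ i < M, Good d D φ H i)
    (wl : List ℕ) (hwl : ∀ g ∈ wl, g < L.K) (n path : ℕ)
    (h : (walk d M n 0 1 path fun c a _ => Nat.beq c 0 && Nat.beq a (pack wl)) = true) :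
    (wl.map (L.phi S)).prod ∈ subOf L S HL := by
  have hV := Letters.valid (d := d) hS hok hcol hdK hdI HL hHL hnR hnW hW
  have h32 := hok.1
  obtain ⟨c, a, _, h', _, hm⟩ := walk_sound hV (hgood _ _ hV) n 0 1 path _ h 1 le_rfl (by
    rw [ev, if_pos le_rfl, rep_zero]; simp)
  simp only [Bool.and_eq_true, Nat.beq_eq] at h'
  obtain ⟨rfl, rfl⟩ := h'
  rw [rep_zero, ev_pack _ _ (fun g hg => by have := hwl g hg; omega), one_mul, inv_one, mul_one] at hm
  simpa [subOf] using hm

end Cfsg.Agent.Lib.CosetEnum
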